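import Mathlib
import Groth.Prelude.Def_ARSys

/-!
# Elements in abelian categories and in projective systems
-/

set_option autoImplicit false
set_option linter.style.haveILetI false

universe w v u

open CategoryTheory CategoryTheory.Limits Opposite

namespace ARLib

variable {C : Type u} [Category.{v} C] [Abelian C]

/-- Elements of an object, through a fully faithful exact embedding into modules. -/
noncomputable abbrev El (X : C) : Type (max u v) :=
  (Abelian.FreydMitchell.functor C).obj X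

/-- The action of a morphism on elements. -/
noncomputable def ap {X Y : C} (f : X ⟶ Y) : El X →+ El Y :=
  ((Abelian.FreydMitchell.functor C).map f).hom.toAddMonoidHom

instance : (Abelian.FreydMitchell.functor C).Additive := Functor.additive_of_preserves_binary_products _

@[simp] theorem ap_id {X : C} (a : El X) : ap (𝟙 X) a = a := by
  simp [ap]

@[simp] theorem ap_comp {X Y Z : C} (f : X ⟶ Y) (g : Y ⟶ Z) (a : El X) :
    ap (f ≫ g) a = ap g (ap f a) := by
  simp [ap]

@[simp] theorem ap_zero {X Y : C} (a : El X) : ap (0 : X ⟶ Y) a = 0 := by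
  simp [ap]

@[simp] theorem ap_sub_hom {X Y : C} (f g : X ⟶ Y) (a : El X) : ap (f - g) a = ap f a - ap g a := by
  simp [ap, Functor.map_sub]

theorem hom_ext {X Y : C} {f g : X ⟶ Y} (h : ∀ a, ap f a = ap g a) : f = g :=
  (Abelian.FreydMitchell.functor C).map_injective (ModuleCat.hom_ext (LinearMap.ext h))

theorem eq_zero {X Y : C} {f : X ⟶ Y} (h : ∀ a, ap f a = 0) : f = 0 :=
  hom_ext fun a => by rw [h, ap_zero]

theorem mono_iff {X Y : C} (f : X ⟶ Y) : Mono f ↔ Function.Injective (ap f) :=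
  ((Abelian.FreydMitchell.functor C).mono_map_iff_mono f).symm.trans (ModuleCat.mono_iff_injective _)

theorem epi_iff {X Y : C} (f : X ⟶ Y) : Epi f ↔ Function.Surjective (ap f) :=
  ((Abelian.FreydMitchell.functor C).epi_map_iff_epi f).symm.trans (ModuleCat.epi_iff_surjective _)

theorem inj {X Y : C} (f : X ⟶ Y) [h : Mono f] : Function.Injective (ap f) := (mono_iff f).1 h

theorem surj {X Y : C} (f : X ⟶ Y) [h : Epi f] : Function.Surjective (ap f) := (epi_iff f).1 h

theorem exact_iff (S : ShortComplex C) :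
    S.Exact ↔ ∀ b, ap S.g b = 0 → ∃ a, ap S.f a = b :=
  (S.exact_map_iff_of_faithful (Abelian.FreydMitchell.functor C)).symm.trans
    (S.map (Abelian.FreydMitchell.functor C)).moduleCat_exact_iff

theorem exists_kernel_ι {X Y : C} (f : X ⟶ Y) (a : El X) (h : ap f a = 0) :
    ∃ k, ap (kernel.ι f) k = a :=
  (exact_iff (ShortComplex.mk _ _ (kernel.condition f))).1
    (ShortComplex.exact_of_f_is_kernel _ (kernelIsKernel f)) a h

theorem exists_of_cokernel_π {X Y : C} (f : X ⟶ Y) (b : El Y) (h : ap (cokernel.π f) b = 0) :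
    ∃ a, ap f a = b :=
  (exact_iff (ShortComplex.mk _ _ (cokernel.condition f))).1
    (ShortComplex.exact_of_g_is_cokernel _ (cokernelIsCokernel f)) b h

@[simp] theorem cokernel_π_ap {X Y : C} (f : X ⟶ Y) (a : El X) :
    ap (cokernel.π f) (ap f a) = 0 := by
  rw [← ap_comp, cokernel.condition, ap_zero]

@[simp] theorem kernel_ι_ap {X Y : C} (f : X ⟶ Y) (k : El (kernel f)) :
    ap f (ap (kernel.ι f) k) = 0 := by
  rw [← ap_comp, kernel.condition, ap_zero]

section Subobjects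

/-- The elements of a subobject. -/
noncomputable def rg {X : C} (S : Subobject X) : Set (El X) := Set.range (ap S.arrow)

theorem le_iff_rg {X : C} (S T : Subobject X) : S ≤ T ↔ rg S ⊆ rg T := by
  constructor
  · rintro h _ ⟨a, rfl⟩
    exact ⟨ap (Subobject.ofLE S T h) a, by rw [← ap_comp, Subobject.ofLE_arrow]⟩
  · intro h
    have hz : S.arrow ≫ cokernel.π T.arrow = 0 := eq_zero fun a => by
      obtain ⟨b, hb⟩ := h ⟨a, rfl⟩
      rw [ap_comp, ← hb, cokernel_π_ap]
    exact Subobject.le_of_comm (Abelian.monoLift T.arrow S.arrow hz) (Abelian.monoLift_comp _ _ _)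

theorem eq_of_rg {X : C} {S T : Subobject X} (h : rg S = rg T) : S = T :=
  le_antisymm ((le_iff_rg S T).2 h.subset) ((le_iff_rg T S).2 h.symm.subset)

theorem rg_image {X Y : C} (f : X ⟶ Y) : rg (imageSubobject f) = Set.range (ap f) := by
  ext y
  constructor
  · rintro ⟨a, rfl⟩
    obtain ⟨x, rfl⟩ := surj (factorThruImageSubobject f) a
    exact ⟨x, by rw [← ap_comp, imageSubobject_arrow_comp]⟩
  · rintro ⟨x, rfl⟩
    exact ⟨ap (factorThruImageSubobject f) x, by rw [← ap_comp, imageSubobject_arrow_comp]⟩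

theorem rg_kernel {X Y : C} (f : X ⟶ Y) : rg (kernelSubobject f) = {a | ap f a = 0} := by
  ext a
  constructor
  · rintro ⟨k, rfl⟩
    rw [Set.mem_setOf_eq, ← ap_comp, kernelSubobject_arrow_comp, ap_zero]
  · intro ha
    obtain ⟨k, rfl⟩ := exists_kernel_ι f a ha
    exact ⟨ap (kernelSubobjectIso f).inv k, by rw [← ap_comp, kernelSubobject_arrow']⟩

theorem rg_top (X : C) : rg (⊤ : Subobject X) = Set.univ :=
  Set.eq_univ_of_forall fun a => surj (⊤ : Subobject X).arrow a

theorem rg_bot (X : C) : rg (⊥ : Subobject X) = {0} := by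
  ext a
  constructor
  · rintro ⟨k, rfl⟩
    rw [Subobject.bot_arrow, ap_zero]; rfl
  · rintro rfl
    exact ⟨0, map_zero _⟩

end Subobjects

section Systems

/-- Restriction of elements of a projective system. -/
noncomputable def res (X : ARSys.PS C) {n m : ℕ} (h : n ≤ m) :
    El (X.obj (op m)) →+ El (X.obj (op n)) :=
  ap (ARSys.tr X h)

@[simp] theorem res_self (X : ARSys.PS C) {n : ℕ} (h : n ≤ n) (a : El (X.obj (op n))) :
    res X h a = a := by
  have : ARSys.tr X h = 𝟙 _ := X.map_id (op n)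
  rw [res, this, ap_id]

@[simp] theorem res_res (X : ARSys.PS C) {l n m : ℕ} (h : l ≤ n) (h' : n ≤ m)
    (a : El (X.obj (op m))) : res X h (res X h' a) = res X (h.trans h') a := by
  rw [res, res, res, ← ap_comp]
  exact congrArg (fun f => ap f a) (X.map_comp (homOfLE h').op (homOfLE h).op).symm

theorem res_natural {X Y : ARSys.PS C} (u : X ⟶ Y) {n m : ℕ} (h : n ≤ m)
    (a : El (X.obj (op m))) : ap (u.app (op n)) (res X h a) = res Y h (ap (u.app (op m)) a) := by
  rw [res, res, ← ap_comp, ← ap_comp]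
  exact congrArg (fun f => ap f a) (u.naturality (homOfLE h).op)

theorem res_shiftMap (X : ARSys.PS C) (r n : ℕ) (a : El (X.obj (op (n + r)))) :
    ap (ARSys.shiftMap X r n) a = res X (Nat.le_add_right n r) a := rfl

theorem shift_res (X : ARSys.PS C) (r : ℕ) {n m : ℕ} (h : n ≤ m)
    (a : El (X.obj (op (m + r)))) :
    res ((ARSys.shift C r).obj X) h a = res X (Nat.add_le_add_right h r) a := rfl

theorem app_mono {X Y : ARSys.PS C} (u : X ⟶ Y) [Mono u] (n : ℕ) : Mono (u.app (op n)) :=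
  inferInstanceAs (Mono (((evaluation ℕᵒᵖ C).obj (op n)).map u))

theorem app_epi {X Y : ARSys.PS C} (u : X ⟶ Y) [Epi u] (n : ℕ) : Epi (u.app (op n)) :=
  inferInstanceAs (Epi (((evaluation ℕᵒᵖ C).obj (op n)).map u))

theorem app_exact (S : ShortComplex (ARSys.PS C)) (hS : S.Exact) (n : ℕ)
    (b : El (S.X₂.obj (op n))) (h : ap (S.g.app (op n)) b = 0) :
    ∃ a, ap (S.f.app (op n)) a = b :=
  (exact_iff (S.map ((evaluation ℕᵒᵖ C).obj (op n)))).1 (hS.map _) b h

/-- A short exact sequence of systems, in elements. -/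
structure SES (S : ShortComplex (ARSys.PS C)) : Prop where
  inj : ∀ n, Function.Injective (ap (S.f.app (op n)))
  surj : ∀ n, Function.Surjective (ap (S.g.app (op n)))
  exact : ∀ n b, ap (S.g.app (op n)) b = 0 → ∃ a, ap (S.f.app (op n)) a = b
  zero : ∀ n a, ap (S.g.app (op n)) (ap (S.f.app (op n)) a) = 0

theorem SES.of_shortExact {S : ShortComplex (ARSys.PS C)} (hS : S.ShortExact) : SES S where
  inj n := haveI := hS.mono_f; haveI := app_mono S.f n; ARLib.inj (S.f.app (op n))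
  surj n := haveI := hS.epi_g; haveI := app_epi S.g n; ARLib.surj (S.g.app (op n))
  exact := app_exact S hS.exact
  zero n a := by
    rw [← ap_comp, ← NatTrans.comp_app, S.zero]
    exact ap_zero a

theorem strict_iff (X : ARSys.PS C) :
    ARSys.IsStrict X ↔ ∀ (n m : ℕ) (h : n ≤ m), Function.Surjective (res X h) :=
  forall_congr' fun _ => forall_congr' fun _ => forall_congr' fun _ => epi_iff _

theorem arNull_iff (X : ARSys.PS C) :
    ARSys.IsARNull X ↔
      ∃ r : ℕ, ∀ (n m : ℕ) (h : n ≤ m), n + r ≤ m → ∀ a, res X h a = 0 := by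
  constructor
  · rintro ⟨r, hr⟩
    refine ⟨r, fun n m h hm a => ?_⟩
    rw [← res_res X (Nat.le_add_right n r) hm a, ← res_shiftMap, hr, ap_zero]
  · rintro ⟨r, hr⟩
    exact ⟨r, fun n => eq_zero fun a => hr n (n + r) _ le_rfl a⟩

/-- Kernel and cokernel killed by a uniform translation. -/
structure ARB {X Y : ARSys.PS C} (u : X ⟶ Y) (r : ℕ) : Prop where
  ker : ∀ (n m : ℕ) (h : n ≤ m), n + r ≤ m → ∀ a, ap (u.app (op m)) a = 0 → res X h a = 0
  coker : ∀ (n m : ℕ) (h : n ≤ m), n + r ≤ m → ∀ b, ∃ a, ap (u.app (op n)) a = res Y h b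

theorem arIso_iff {X Y : ARSys.PS C} (u : X ⟶ Y) : ARSys.IsARIso u ↔ ∃ r, ARB u r := by
  constructor
  · rintro ⟨hk, hc⟩
    obtain ⟨r₁, h₁⟩ := (arNull_iff _).1 hk
    obtain ⟨r₂, h₂⟩ := (arNull_iff _).1 hc
    refine ⟨max r₁ r₂, fun n m h hm a ha => ?_, fun n m h hm b => ?_⟩
    · obtain ⟨k, rfl⟩ := app_exact (ShortComplex.mk _ _ (kernel.condition u))
        (ShortComplex.exact_of_f_is_kernel _ (kernelIsKernel u)) m a ha
      change res X h (ap ((kernel.ι u).app (op m)) k) = 0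
      rw [← res_natural, h₁ n m h (by omega) k, map_zero]
    · refine app_exact (ShortComplex.mk _ _ (cokernel.condition u))
        (ShortComplex.exact_of_g_is_cokernel _ (cokernelIsCokernel u)) n _ ?_
      change ap ((cokernel.π u).app (op n)) (res Y h b) = 0
      rw [res_natural, h₂ n m h (by omega)]
  · rintro ⟨r, hr⟩
    refine ⟨(arNull_iff _).2 ⟨r, fun n m h hm k => ?_⟩, (arNull_iff _).2 ⟨r, fun n m h hm c => ?_⟩⟩
    · haveI := app_mono (kernel.ι u) n
      refine inj ((kernel.ι u).app (op n)) ?_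
      rw [res_natural, map_zero]
      refine hr.ker n m h hm _ ?_
      rw [← ap_comp, ← NatTrans.comp_app, kernel.condition]
      exact ap_zero k
    · haveI := app_epi (cokernel.π u) m
      obtain ⟨b, rfl⟩ := surj ((cokernel.π u).app (op m)) c
      rw [← res_natural]
      obtain ⟨a, ha⟩ := hr.coker n m h hm b
      rw [← ha, ← ap_comp, ← NatTrans.comp_app, cokernel.condition]
      exact ap_zero a

/-- Uniform Mittag-Leffler, in elements. -/
def MLB (X : ARSys.PS C) (r : ℕ) : Prop :=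
  ∀ (n m M : ℕ) (h : n ≤ m) (h' : n ≤ M), n + r ≤ m → ∀ a, ∃ b, res X h' b = res X h a

theorem mlar_iff (X : ARSys.PS C) : ARSys.IsMLAR X ↔ ∃ r, MLB X r := by
  constructor
  · rintro ⟨r, hr⟩
    refine ⟨r, fun n m M h h' hm a => ?_⟩
    have e := congrArg rg (hr (max r (M - n)) (le_max_left _ _) n)
    rw [rg_image, rg_image] at e
    obtain ⟨b, hb⟩ := e.symm.subset ⟨res X hm a, rfl⟩
    rw [res_shiftMap, res_shiftMap, res_res] at hb
    exact ⟨res X (show M ≤ n + max r (M - n) by omega) b, by rw [res_res]; exact hb⟩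
  · rintro ⟨r, hr⟩
    refine ⟨r, fun s hs n => eq_of_rg ?_⟩
    rw [rg_image, rg_image]
    apply Set.Subset.antisymm
    · rintro _ ⟨b, rfl⟩
      refine ⟨res X (show n + r ≤ n + s by omega) b, ?_⟩
      rw [res_shiftMap, res_shiftMap, res_res]
    · rintro _ ⟨a, rfl⟩
      exact hr n (n + r) (n + s) _ _ le_rfl a

end Systems

section Ideals

variable {A : Type w} [CommRing A] [Linear A C]

/-- The elements of `I X`. -/
noncomputable def IM (I : Ideal A) (X : C) : AddSubgroup (El X) where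
  carrier := {x | ∀ (Y : C) (φ : X ⟶ Y), ARSys.HomKilledBy I φ → ap φ x = 0}
  zero_mem' _ φ _ := map_zero (ap φ)
  add_mem' ha hb Y φ h := by rw [map_add, ha Y φ h, hb Y φ h, add_zero]
  neg_mem' ha Y φ h := by rw [map_neg, ha Y φ h, neg_zero]

theorem mem_IM {I : Ideal A} {X : C} {x : El X} :
    x ∈ IM I X ↔ ∀ (Y : C) (φ : X ⟶ Y), ARSys.HomKilledBy I φ → ap φ x = 0 := Iff.rfl

theorem IM_map {I : Ideal A} {X Y : C} (f : X ⟶ Y) {x : El X} (hx : x ∈ IM I X) :
    ap f x ∈ IM I Y := fun Z φ hφ => by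
  rw [← ap_comp]
  exact hx Z _ fun a ha => by rw [← Linear.comp_smul, hφ a ha, comp_zero]

theorem IM_mono {I I' : Ideal A} (h : I ≤ I') (X : C) : IM I X ≤ IM I' X :=
  fun _ hx Y φ hφ => hx Y φ fun a ha => hφ a (h ha)

theorem smul_mem_IM {I : Ideal A} {X : C} {a : A} (ha : a ∈ I) (z : El X) :
    ap (a • 𝟙 X) z ∈ IM I X := fun Y φ hφ => by
  rw [← ap_comp, Linear.smul_comp, Category.id_comp, hφ a ha, ap_zero]

theorem killed_IM {I : Ideal A} {X : C} (h : ARSys.KilledBy I X) {x : El X} (hx : x ∈ IM I X) :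
    x = 0 := by
  rw [← ap_id x]
  exact hx X (𝟙 X) h

theorem homKilled_iff {I : Ideal A} {X Y : C} (φ : X ⟶ Y) :
    ARSys.HomKilledBy I φ ↔ ∀ x ∈ IM I X, ap φ x = 0 := by
  refine ⟨fun h x hx => hx Y φ h, fun h a ha => eq_zero fun z => ?_⟩
  rw [← Category.id_comp φ, ← Linear.smul_comp, ap_comp]
  exact h _ (smul_mem_IM ha z)

theorem homKilled_of_killed {I : Ideal A} {X Y : C} (φ : X ⟶ Y) (h : ARSys.KilledBy I Y) :
    ARSys.HomKilledBy I φ := fun a ha => by
  rw [← Category.comp_id φ, ← Linear.comp_smul, h a ha, comp_zero]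

theorem killedBy_iff {I : Ideal A} {X : C} :
    ARSys.KilledBy I X ↔ ∀ x ∈ IM I X, x = 0 :=
  ⟨fun h _ hx => killed_IM h hx, fun h => (homKilled_iff (𝟙 X)).2 fun x hx => by
    rw [ap_id, h x hx]⟩

theorem killed_of_inj {I : Ideal A} {X Y : C} (f : X ⟶ Y) (hf : Function.Injective (ap f))
    (h : ARSys.KilledBy I Y) : ARSys.KilledBy I X :=
  killedBy_iff.2 fun _ hx => hf (by rw [killed_IM h (IM_map f hx), map_zero])

theorem killed_of_surj {I : Ideal A} {X Y : C} (f : X ⟶ Y) (hf : Function.Surjective (ap f))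
    (h : ARSys.KilledBy I X) : ARSys.KilledBy I Y := fun a ha => eq_zero fun y => by
  obtain ⟨x, rfl⟩ := hf y
  rw [← ap_comp, Linear.comp_smul, Category.comp_id,
    homKilled_iff f |>.2 (fun z hz => by rw [killed_IM h hz, map_zero]) a ha, ap_zero]

theorem killed_mono {I I' : Ideal A} {X : C} (h : I ≤ I') (hX : ARSys.KilledBy I' X) :
    ARSys.KilledBy I X := fun a ha => hX a (h ha)

theorem exists_factor {X Y Z : C} (p : X ⟶ Y) [Epi p] (φ : X ⟶ Z)
    (h : ∀ x, ap p x = 0 → ap φ x = 0) : ∃ ψ : Y ⟶ Z, p ≫ ψ = φ :=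
  ⟨Abelian.epiDesc p φ (eq_zero fun k => by rw [ap_comp]; exact h _ (kernel_ι_ap p k)),
    Abelian.comp_epiDesc _ _ _⟩

theorem isQuot_iff {I : Ideal A} {X Q : C} (p : X ⟶ Q) :
    ARSys.IsQuot I p ↔ ARSys.KilledBy I Q ∧ Function.Surjective (ap p) ∧
      ∀ x, ap p x = 0 → x ∈ IM I X := by
  constructor
  · rintro ⟨hQ, huniv⟩
    refine ⟨hQ, (epi_iff p).1 ⟨fun g g' h => ?_⟩, fun x hx Y φ hφ => ?_⟩
    · obtain ⟨ψ, -, hψ⟩ := huniv _ (p ≫ g) fun a ha => by
        rw [← Linear.smul_comp, homKilled_of_killed p hQ a ha, zero_comp]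
      exact (hψ g rfl).trans (hψ g' h.symm).symm
    · obtain ⟨ψ, hψ, -⟩ := huniv Y φ hφ
      rw [← hψ, ap_comp, hx, map_zero]
  · rintro ⟨hQ, hs, hk⟩
    haveI := (epi_iff p).2 hs
    refine ⟨hQ, fun Y φ hφ => ?_⟩
    obtain ⟨ψ, hψ⟩ := exists_factor p φ fun x hx => hk x hx Y φ hφ
    exact ⟨ψ, hψ, fun ψ' h => (cancel_epi p).1 (h.trans hψ.symm)⟩

variable (C) in
/-- Quotients modulo `I` exist. -/
def HQ (I : Ideal A) : Prop := ∀ X : C, ∃ (Q : C) (p : X ⟶ Q), ARSys.IsQuot I p

theorem hq_of_gens {I : Ideal A} {ι : Type*} (g : ι → A) (hg : Ideal.span (Set.range g) = I)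
    [HasCoproductsOfShape ι C] : HQ C I := fun X => by
  let μ : (∐ fun _ : ι => X) ⟶ X := Sigma.desc fun i => g i • 𝟙 X
  refine ⟨cokernel μ, cokernel.π μ, (isQuot_iff _).2 ⟨?_, surj _, fun x hx => ?_⟩⟩
  · intro a ha
    have h : a • cokernel.π μ = 0 := by
      rw [← hg] at ha
      refine Submodule.span_induction ?_ (zero_smul _ _) ?_ ?_ ha
      · rintro _ ⟨i, rfl⟩
        have hi : Sigma.ι (fun _ : ι => X) i ≫ μ ≫ cokernel.π μ = 0 := by
          rw [cokernel.condition, comp_zero]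
        rw [← Category.assoc, Sigma.ι_desc, Linear.smul_comp, Category.id_comp] at hi
        exact hi
      · intro a b _ _ h₁ h₂
        rw [add_smul, h₁, h₂, add_zero]
      · intro c b _ hb
        rw [smul_eq_mul, mul_smul, hb, smul_zero]
    rw [← cancel_epi (cokernel.π μ), Linear.comp_smul, Category.comp_id, h, comp_zero]
  · obtain ⟨t, rfl⟩ := exists_of_cokernel_π μ x hx
    intro Y φ hφ
    have : μ ≫ φ = 0 := Sigma.hom_ext _ _ fun i => by
      simp [μ, Linear.smul_comp, hφ (g i) (hg ▸ Ideal.subset_span ⟨i, rfl⟩)]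
    rw [← ap_comp, this, ap_zero]

theorem hq_pow {J : Ideal A} (hJ : J.FG ∨ HasCoproducts.{w} C) (k : ℕ) : HQ C (J ^ k) := by
  rcases hJ with hJ | hJ
  · obtain ⟨s, hs⟩ := hJ.pow (n := k)
    exact hq_of_gens (ι := s) (fun x => (x : A)) (by simpa [Subtype.range_coe] using hs)
  · haveI := hJ (J ^ k : Ideal A)
    exact hq_of_gens (fun x : (J ^ k : Ideal A) => (x : A)) (by simp [Subtype.range_coe])

theorem IM_lift {I : Ideal A} (hI : HQ C I) {X Y : C} (f : X ⟶ Y) (hf : Function.Surjective (ap f))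
    {y : El Y} (hy : y ∈ IM I Y) : ∃ x ∈ IM I X, ap f x = y := by
  obtain ⟨Q, p, hp⟩ := hI X
  obtain ⟨hQ, hps, hpk⟩ := (isQuot_iff p).1 hp
  have hk : ARSys.HomKilledBy I (cokernel.π (kernel.ι p ≫ f)) := fun a ha => eq_zero fun z => by
    obtain ⟨x, rfl⟩ := hf z
    have h0 : ap p (ap (a • 𝟙 X) x) = 0 := killed_IM hQ (IM_map p (smul_mem_IM ha x))
    obtain ⟨k, hk⟩ := exists_kernel_ι p _ h0
    have e : ap (a • cokernel.π (kernel.ι p ≫ f)) (ap f x) =
        ap (f ≫ cokernel.π (kernel.ι p ≫ f)) (ap (a • 𝟙 X) x) := by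
      rw [← ap_comp, ← ap_comp, Linear.comp_smul, Linear.smul_comp, Category.id_comp]
    rw [e, ← hk, ← ap_comp, ← Category.assoc, cokernel.condition, ap_zero]
  obtain ⟨k, hk'⟩ := exists_of_cokernel_π _ y (hy _ _ hk)
  exact ⟨ap (kernel.ι p) k, hpk _ (kernel_ι_ap p k), by rw [← ap_comp]; exact hk'⟩

end Ideals

end ARLib
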