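import Mathlib
import Groth.Agent.ARLib.Elem

/-!
# Systems up to translation
-/

set_option autoImplicit false
set_option linter.style.haveILetI false

universe w v u

open CategoryTheory CategoryTheory.Limits Opposite

namespace ARLib

variable {C : Type u} [Category.{v} C] [Abelian C] {X Y Z : ARSys.PS C}

theorem arNull_iff_ses {S : ShortComplex (ARSys.PS C)} (h : SES S) :
    ARSys.IsARNull S.X₂ ↔ ARSys.IsARNull S.X₁ ∧ ARSys.IsARNull S.X₃ := by
  simp only [arNull_iff]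
  constructor
  · rintro ⟨r, hr⟩
    refine ⟨⟨r, fun n m hnm hm a => h.inj n ?_⟩, ⟨r, fun n m hnm hm c => ?_⟩⟩
    · rw [res_natural, hr n m hnm hm, map_zero]
    · obtain ⟨b, rfl⟩ := h.surj m c
      rw [← res_natural, hr n m hnm hm, map_zero]
  · rintro ⟨⟨r₁, h₁⟩, ⟨r₃, h₃⟩⟩
    refine ⟨r₁ + r₃, fun n m hnm hm b => ?_⟩
    obtain ⟨a, ha⟩ := h.exact (n + r₁) (res _ (show n + r₁ ≤ m by omega) b) (by
      rw [res_natural, h₃ _ _ _ (by omega)])
    rw [← res_res _ (Nat.le_add_right n r₁) (show n + r₁ ≤ m by omega) b, ← ha, ← res_natural,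
      h₁ _ _ _ le_rfl, map_zero]

theorem ARB.mono {u : X ⟶ Y} {r r' : ℕ} (h : ARB u r) (hr : r ≤ r') : ARB u r' :=
  ⟨fun n m hnm hm => h.ker n m hnm (by omega), fun n m hnm hm => h.coker n m hnm (by omega)⟩

theorem ARB.comp {u : X ⟶ Y} {u' : Y ⟶ Z} {r r' : ℕ} (h : ARB u r) (h' : ARB u' r') :
    ARB (u ≫ u') (r + r') := by
  refine ⟨fun n m hnm hm a ha => ?_, fun n m hnm hm c => ?_⟩
  · rw [NatTrans.comp_app, ap_comp] at ha
    have := h'.ker (n + r) m (by omega) (by omega) _ ha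
    rw [← res_natural] at this
    rw [← res_res X (Nat.le_add_right n r) (show n + r ≤ m by omega)]
    exact h.ker _ _ _ le_rfl _ this
  · obtain ⟨b, hb⟩ := h'.coker (n + r) m (by omega) (by omega) c
    obtain ⟨a, ha⟩ := h.coker n (n + r) (Nat.le_add_right n r) le_rfl b
    refine ⟨a, ?_⟩
    rw [NatTrans.comp_app, ap_comp, ha, res_natural, hb, res_res]

/-- The image of a morphism of systems. -/
theorem exists_image (u : X ⟶ Y) :
    ∃ (I : ARSys.PS C) (e : X ⟶ I) (ι : I ⟶ Y), e ≫ ι = u ∧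
      (∀ n, Function.Surjective (ap (e.app (op n)))) ∧
      ∀ n, Function.Injective (ap (ι.app (op n))) :=
  ⟨Abelian.image u, Abelian.factorThruImage u, Abelian.image.ι u, Abelian.image.fac u,
    fun n => haveI := app_epi (Abelian.factorThruImage u) n; surj _,
    fun n => haveI := app_mono (Abelian.image.ι u) n; inj _⟩

theorem mlb_mono {r r' : ℕ} (h : MLB X r) (hr : r ≤ r') : MLB X r' :=
  fun n m M hnm hnM hm => h n m M hnm hnM (by omega)

theorem strict_of_surj {u : X ⟶ Y} (hu : ∀ n, Function.Surjective (ap (u.app (op n))))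
    (hX : ARSys.IsStrict X) : ARSys.IsStrict Y :=
  (strict_iff _).2 fun n m h y => by
    obtain ⟨x, rfl⟩ := hu n y
    obtain ⟨x', rfl⟩ := (strict_iff _).1 hX n m h x
    exact ⟨ap (u.app (op m)) x', (res_natural u h x').symm⟩

theorem mlb_of_strict_arb {u : Y ⟶ X} {r : ℕ} (hY : ARSys.IsStrict Y) (h : ARB u r) : MLB X r := by
  intro n m M hnm hnM hm a
  obtain ⟨y, hy⟩ := h.coker n m hnm hm a
  obtain ⟨y', rfl⟩ := (strict_iff _).1 hY n M hnM y
  exact ⟨ap (u.app (op M)) y', by rw [← hy, res_natural]⟩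

theorem image_eq_of_strict_arb {u : Y ⟶ X} {r : ℕ} (hY : ARSys.IsStrict Y) (h : ARB u r)
    (s : ℕ) (hs : r ≤ s) (n : ℕ) :
    imageSubobject (ARSys.shiftMap X s n) = imageSubobject (u.app (op n)) := by
  refine eq_of_rg ?_
  rw [rg_image, rg_image]
  apply Set.Subset.antisymm
  · rintro _ ⟨a, rfl⟩
    exact h.coker n (n + s) _ (by omega) a
  · rintro _ ⟨y, rfl⟩
    obtain ⟨y', rfl⟩ := (strict_iff _).1 hY n (n + s) (Nat.le_add_right n s) y
    exact ⟨ap (u.app (op (n + s))) y', by rw [res_shiftMap, res_natural]⟩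

/-- The translation map as a natural transformation. -/
def shiftNat (X : ARSys.PS C) (r : ℕ) : (ARSys.shift C r).obj X ⟶ X where
  app i := X.map (homOfLE (Nat.le_add_right i.unop r)).op
  naturality _ _ _ :=
    (X.map_comp _ _).symm.trans ((congrArg X.map (Subsingleton.elim _ _)).trans (X.map_comp _ _))

theorem shiftNat_app (X : ARSys.PS C) (r n : ℕ) :
    (shiftNat X r).app (op n) = ARSys.shiftMap X r n := rfl

/-- The system of universal images. -/
theorem exists_univ_image {r : ℕ} (h : MLB X r) :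
    ∃ (I : ARSys.PS C) (ι : I ⟶ X), (∀ n, Function.Injective (ap (ι.app (op n)))) ∧
      ARSys.IsStrict I ∧ ARB ι r ∧
      ∀ n, imageSubobject (ι.app (op n)) = imageSubobject (ARSys.shiftMap X r n) := by
  obtain ⟨I, e, ι, hfac, he, hι⟩ := exists_image (shiftNat X r)
  have happ : ∀ n a, ap (ι.app (op n)) (ap (e.app (op n)) a) =
      res X (Nat.le_add_right n r) a := fun n a => by
    rw [← ap_comp, ← NatTrans.comp_app, hfac]; rfl
  refine ⟨I, ι, hι, (strict_iff _).2 fun n m hnm y => ?_,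
    ⟨fun n m hnm _ a ha => ?_, fun n m hnm hm b => ?_⟩, fun n => eq_of_rg ?_⟩
  · obtain ⟨a, rfl⟩ := he n y
    obtain ⟨b, hb⟩ := h n (n + r) (m + r) (Nat.le_add_right n r) (by omega) le_rfl a
    refine ⟨ap (e.app (op m)) b, hι n ?_⟩
    rw [res_natural, happ, happ, res_res, hb]
  · rw [hι m (ha.trans (map_zero _).symm), map_zero]
  · exact ⟨ap (e.app (op n)) (res X hm b), by rw [happ, res_res]⟩
  · rw [rg_image, rg_image]
    ext y
    constructor
    · rintro ⟨i, rfl⟩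
      obtain ⟨a, rfl⟩ := he n i
      exact ⟨a, by rw [res_shiftMap, happ]⟩
    · rintro ⟨a, rfl⟩
      exact ⟨ap (e.app (op n)) a, by rw [res_shiftMap, happ]⟩

theorem mlar_iff_exists_strict (X : ARSys.PS C) :
    ARSys.IsMLAR X ↔ ∃ (Y : ARSys.PS C) (u : Y ⟶ X), ARSys.IsStrict Y ∧ ARSys.IsARIso u := by
  rw [mlar_iff]
  constructor
  · rintro ⟨r, hr⟩
    obtain ⟨I, ι, -, hI, hι, -⟩ := exists_univ_image hr
    exact ⟨I, ι, hI, (arIso_iff ι).2 ⟨r, hι⟩⟩
  · rintro ⟨Y, u, hY, hu⟩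
    obtain ⟨r, hr⟩ := (arIso_iff u).1 hu
    exact ⟨r, mlb_of_strict_arb hY hr⟩

theorem isML_of_mlar (h : ARSys.IsMLAR X) : ARSys.IsML X := by
  obtain ⟨r, hr⟩ := h
  exact fun n => ⟨r, fun s hs => hr s hs n⟩

theorem mlar_iff_cokernel (X : ARSys.PS C) :
    ARSys.IsMLAR X ↔ (ARSys.IsML X ∧ ∃ (X' : ARSys.PS C) (ι : X' ⟶ X), Mono ι ∧
      (∀ n : ℕ, ∃ r₀ : ℕ, ∀ r : ℕ, r₀ ≤ r →
        imageSubobject (ι.app (op n)) = imageSubobject (ARSys.shiftMap X r n)) ∧
      ARSys.IsARNull (cokernel ι)) := by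
  constructor
  · intro hX
    obtain ⟨r, hr⟩ := (mlar_iff X).1 hX
    obtain ⟨I, ι, hinj, hI, hι, himg⟩ := exists_univ_image hr
    haveI : Mono ι := by
      haveI : ∀ i, Mono (ι.app i) := fun i => (mono_iff _).2 (hinj i.unop)
      exact NatTrans.mono_of_mono_app ι
    refine ⟨isML_of_mlar hX, I, ι, inferInstance, fun n => ⟨r, fun s hs =>
      (image_eq_of_strict_arb hI hι s hs n).symm⟩, ((arIso_iff ι).2 ⟨r, hι⟩).2⟩
  · rintro ⟨-, X', ι, hι, himg, hc⟩
    obtain ⟨R, hR⟩ := (arNull_iff _).1 hc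
    rw [mlar_iff]
    refine ⟨R, fun n m M hnm hnM hm a => ?_⟩
    obtain ⟨x, hx⟩ := app_exact (ShortComplex.mk _ _ (cokernel.condition ι))
      (ShortComplex.exact_of_g_is_cokernel _ (cokernelIsCokernel ι)) n (res X hnm a) (by
        change ap ((cokernel.π ι).app (op n)) (res X hnm a) = 0
        rw [res_natural, hR n m hnm hm])
    obtain ⟨r₀, hr₀⟩ := himg n
    have e := congrArg rg (hr₀ (max r₀ (M - n)) (le_max_left _ _))
    rw [rg_image, rg_image] at e
    obtain ⟨b, hb⟩ := e.subset ⟨x, rfl⟩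
    refine ⟨res X (show M ≤ n + max r₀ (M - n) by omega) b, ?_⟩
    rw [res_res, ← hx]
    exact hb

theorem mlb_of_surj {u : X ⟶ Y} (hu : ∀ n, Function.Surjective (ap (u.app (op n)))) {r : ℕ}
    (h : MLB X r) : MLB Y r := fun n m M hnm hnM hm c => by
  obtain ⟨a, rfl⟩ := hu m c
  obtain ⟨b, hb⟩ := h n m M hnm hnM hm a
  exact ⟨ap (u.app (op M)) b, by rw [← res_natural, hb, res_natural]⟩

theorem mlb_ext {S : ShortComplex (ARSys.PS C)} (h : SES S) {r₁ r₃ : ℕ} (h₁ : MLB S.X₁ r₁)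
    (h₃ : MLB S.X₃ r₃) : MLB S.X₂ (r₁ + r₃) := by
  intro n m M hnm hnM hm b
  let M' := max M (n + r₁)
  have e₁ : n + r₁ ≤ M' := le_max_right _ _
  have e₂ : M ≤ M' := le_max_left _ _
  obtain ⟨c, hc⟩ := h₃ (n + r₁) m M' (by omega) e₁ (by omega) (ap (S.g.app (op m)) b)
  obtain ⟨b', rfl⟩ := h.surj M' c
  obtain ⟨a, ha⟩ := h.exact (n + r₁)
    (res S.X₂ (show n + r₁ ≤ m by omega) b - res S.X₂ e₁ b') (by
      rw [map_sub, res_natural, res_natural, hc, sub_self])
  obtain ⟨a', ha'⟩ := h₁ n (n + r₁) M (Nat.le_add_right n r₁) hnM le_rfl a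
  refine ⟨ap (S.f.app (op M)) a' + res S.X₂ e₂ b', ?_⟩
  rw [map_add, ← res_natural, ha', res_natural, ha, map_sub, res_res, res_res, res_res]
  abel

end ARLib
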