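import Mathlib
import Groth.Agent.ARLib.Basic

/-!
# Adic systems
-/

set_option autoImplicit false
set_option linter.style.haveILetI false

universe w v u

open CategoryTheory CategoryTheory.Limits Opposite

namespace ARLib

variable {C : Type u} [Category.{v} C] [Abelian C] {A : Type w} [CommRing A] [Linear A C]
  {J : Ideal A} {X Y Z : ARSys.PS C}

theorem pow_IM_le (J : Ideal A) {k l : ℕ} (h : k ≤ l) (X : C) : IM (J ^ l) X ≤ IM (J ^ k) X :=
  IM_mono (Ideal.pow_le_pow_right h) X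

theorem adic_iff :
    ARSys.IsAdic J X ↔ ARSys.TermKilled J X ∧ ∀ (n m : ℕ) (h : n ≤ m),
      Function.Surjective (res X h) ∧ ∀ a, res X h a = 0 → a ∈ IM (J ^ (n + 1)) (X.obj (op m)) :=
  and_congr_right fun hk => forall_congr' fun n => forall_congr' fun m => forall_congr' fun h =>
    (isQuot_iff _).trans ⟨fun h' => h'.2, fun h' => ⟨hk n, h'⟩⟩

theorem isStrict_of_isAdic (h : ARSys.IsAdic J X) : ARSys.IsStrict X :=
  (strict_iff X).2 fun n m hnm => ((adic_iff.1 h).2 n m hnm).1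

theorem termKilled_of_surj {u : X ⟶ Y} (hu : ∀ n, Function.Surjective (ap (u.app (op n))))
    (h : ARSys.TermKilled J X) : ARSys.TermKilled J Y :=
  fun n => killed_of_surj _ (hu n) (h n)

theorem termKilled_of_inj {u : X ⟶ Y} (hu : ∀ n, Function.Injective (ap (u.app (op n))))
    (h : ARSys.TermKilled J Y) : ARSys.TermKilled J X :=
  fun n => killed_of_inj _ (hu n) (h n)

theorem res_IM (k : ℕ) {n m : ℕ} (h : n ≤ m) {a : El (X.obj (op m))}
    (ha : a ∈ IM (J ^ k) (X.obj (op m))) : res X h a ∈ IM (J ^ k) (X.obj (op n)) :=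
  IM_map _ ha

theorem res_killed (hX : ARSys.TermKilled J X) {k n m : ℕ} (h : n ≤ m) (hk : n + 1 ≤ k)
    {a : El (X.obj (op m))} (ha : a ∈ IM (J ^ k) (X.obj (op m))) : res X h a = 0 :=
  killed_IM (hX n) (pow_IM_le J hk _ (res_IM k h ha))

variable {S : ShortComplex (ARSys.PS C)}

theorem adic_quotient (h : SES S) (h₁ : ARSys.IsStrict S.X₁) (h₂ : ARSys.IsAdic J S.X₂) :
    ARSys.IsAdic J S.X₃ := by
  obtain ⟨k₂, h₂⟩ := adic_iff.1 h₂
  refine adic_iff.2 ⟨termKilled_of_surj h.surj k₂, fun n m hnm => ⟨fun c => ?_, fun c hc => ?_⟩⟩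
  · obtain ⟨b, rfl⟩ := h.surj n c
    obtain ⟨b', rfl⟩ := (h₂ n m hnm).1 b
    exact ⟨ap (S.g.app (op m)) b', (res_natural _ _ _).symm⟩
  · obtain ⟨b, rfl⟩ := h.surj m c
    rw [← res_natural] at hc
    obtain ⟨a, ha⟩ := h.exact n _ hc
    obtain ⟨a', rfl⟩ := (strict_iff _).1 h₁ n m hnm a
    have : b - ap (S.f.app (op m)) a' ∈ IM (J ^ (n + 1)) _ := (h₂ n m hnm).2 _ (by
      rw [map_sub, ← res_natural, ha, sub_self])
    simpa [h.zero] using IM_map (S.g.app (op m)) this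

theorem strict_kernel (hq : ∀ k, HQ C (J ^ k)) (h : SES S) (k₂ : ARSys.TermKilled J S.X₂)
    (h₂ : ARSys.IsStrict S.X₂) (h₃ : ARSys.IsAdic J S.X₃) : ARSys.IsStrict S.X₁ := by
  obtain ⟨-, h₃⟩ := adic_iff.1 h₃
  refine (strict_iff _).2 fun n m hnm a => ?_
  obtain ⟨b, hb⟩ := (strict_iff _).1 h₂ n m hnm (ap (S.f.app (op n)) a)
  have hc := (h₃ n m hnm).2 (ap (S.g.app (op m)) b) (by rw [← res_natural, hb, h.zero])
  obtain ⟨d, hd, hde⟩ := IM_lift (hq _) _ (h.surj m) hc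
  obtain ⟨a', ha'⟩ := h.exact m (b - d) (by rw [map_sub, hde, sub_self])
  refine ⟨a', h.inj n ?_⟩
  rw [res_natural, ha', map_sub, hb, res_killed k₂ hnm le_rfl hd, sub_zero]

theorem adic_ext (hq : ∀ k, HQ C (J ^ k)) (h : SES S) (k₂ : ARSys.TermKilled J S.X₂)
    (h₁ : ARSys.IsAdic J S.X₁) (h₃ : ARSys.IsAdic J S.X₃) : ARSys.IsAdic J S.X₂ := by
  obtain ⟨-, h₁⟩ := adic_iff.1 h₁
  obtain ⟨-, h₃⟩ := adic_iff.1 h₃
  refine adic_iff.2 ⟨k₂, fun n m hnm => ⟨fun b => ?_, fun b hb => ?_⟩⟩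
  · obtain ⟨c, hc⟩ := (h₃ n m hnm).1 (ap (S.g.app (op n)) b)
    obtain ⟨b', rfl⟩ := h.surj m c
    obtain ⟨a, ha⟩ := h.exact n (b - res _ hnm b') (by
      rw [map_sub, res_natural, hc, sub_self])
    obtain ⟨a', rfl⟩ := (h₁ n m hnm).1 a
    exact ⟨ap (S.f.app (op m)) a' + b', by rw [map_add, ← res_natural, ha, sub_add_cancel]⟩
  · have hc := (h₃ n m hnm).2 (ap (S.g.app (op m)) b) (by rw [← res_natural, hb, map_zero])
    obtain ⟨d, hd, hde⟩ := IM_lift (hq _) _ (h.surj m) hc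
    obtain ⟨a, ha⟩ := h.exact m (b - d) (by rw [map_sub, hde, sub_self])
    have : a ∈ IM (J ^ (n + 1)) _ := (h₁ n m hnm).2 a (h.inj n (by
      rw [res_natural, ha, map_sub, hb, res_killed k₂ hnm le_rfl hd, map_zero, sub_zero]))
    have h' := add_mem (IM_map (S.f.app (op m)) this) hd
    rwa [ha, sub_add_cancel] at h'

theorem exists_hom_of_shift (hX : ARSys.IsAdic J X) (hY : ARSys.TermKilled J Y) (r : ℕ)
    (f : (ARSys.shift C r).obj X ⟶ Y) :
    ∃! g : X ⟶ Y, ∀ n : ℕ, f.app (op n) = ARSys.shiftMap X r n ≫ g.app (op n) := by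
  have hg := fun n => (hX.2 n (n + r) (Nat.le_add_right n r)).2 _ (f.app (op n))
    (homKilled_of_killed _ (hY n))
  choose g hg hgu using hg
  refine ⟨{ app := fun i => g i.unop, naturality := fun i j φ => ?_ }, fun n => (hg n).symm,
    fun g' hg' => NatTrans.ext (funext fun i => hgu i.unop _ (hg' i.unop).symm)⟩
  haveI : Epi (ARSys.shiftMap X r i.unop) :=
    isStrict_of_isAdic hX i.unop (i.unop + r) (Nat.le_add_right _ r)
  rw [← cancel_epi (ARSys.shiftMap X r i.unop)]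
  refine Eq.trans ?_ ((congrArg (· ≫ Y.map φ) (hg i.unop).symm).trans (Category.assoc _ _ _))
  refine Eq.trans ?_ (f.naturality φ)
  rw [← hg j.unop]
  exact (Category.assoc _ _ _).symm.trans ((congrArg (· ≫ g j.unop) ((shiftNat X r).naturality φ).symm).trans
    (Category.assoc _ _ _))

theorem exists_arIso_of_shift (hY : ARSys.IsAdic J Y) (kX : ARSys.TermKilled J X) (r : ℕ)
    (v : (ARSys.shift C r).obj Y ⟶ X) (hv : ARSys.IsARIso v) :
    ∃ u : Y ⟶ X, ARSys.IsARIso u := by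
  obtain ⟨u, hu, -⟩ := exists_hom_of_shift hY kX r v
  obtain ⟨k, hk⟩ := (arIso_iff v).1 hv
  refine ⟨u, (arIso_iff u).2 ⟨k, ⟨fun n m hnm hm y hy => ?_, fun n m hnm hm x => ?_⟩⟩⟩
  · obtain ⟨y', rfl⟩ := (strict_iff Y).1 (isStrict_of_isAdic hY) m (m + r) (Nat.le_add_right m r) y
    have h0 := hk.ker n m hnm hm y' (by rw [hu m, ap_comp]; exact hy)
    change res Y _ y' = 0 at h0
    rw [res_res, ← res_res Y (Nat.le_add_right n r) (Nat.add_le_add_right hnm r), h0, map_zero]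
  · obtain ⟨y, hy⟩ := hk.coker n m hnm hm x
    refine ⟨res Y (Nat.le_add_right n r) y, ?_⟩
    rw [← hy, hu n, ap_comp]
    rfl

/-- Kernels of transition maps lie in `J`-multiples, with a defect `r`. -/
def Cond (J : Ideal A) (X : ARSys.PS C) (r : ℕ) : Prop :=
  ∀ (n m : ℕ) (h : n ≤ m) (a : El (X.obj (op m))), res X h a = 0 →
    a ∈ IM (J ^ (n + 1 - r)) (X.obj (op m))

theorem cond_mono {r r' : ℕ} (h : Cond J X r) (hr : r ≤ r') : Cond J X r' :=
  fun n m hnm a ha => pow_IM_le J (by omega) _ (h n m hnm a ha)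

theorem cond_of_adic (h : ARSys.IsAdic J X) : Cond J X 0 :=
  fun n m hnm a ha => ((adic_iff.1 h).2 n m hnm).2 a ha

theorem cond_of_surj_arb {u : Y ⟶ X} {r k : ℕ} (hY : Cond J Y r)
    (hu : ∀ n, Function.Surjective (ap (u.app (op n)))) (hk : ARB u k) : Cond J X (r + k) := by
  intro n m hnm a ha
  obtain ⟨y, rfl⟩ := hu m a
  rw [← res_natural] at ha
  rcases le_or_gt k n with hkn | hkn
  · have h0 := hk.ker (n - k) n (Nat.sub_le n k) (by omega) _ ha
    rw [res_res] at h0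
    exact pow_IM_le J (by omega) _ (IM_map _ (hY _ _ _ y h0))
  · rw [show n + 1 - (r + k) = 0 by omega, pow_zero, Ideal.one_eq_top]
    simpa using smul_mem_IM (X := X.obj (op m)) (Submodule.mem_top (x := (1 : A)))
      (ap (u.app (op m)) y)

theorem cond_of_fker (hq : ∀ k, HQ C (J ^ k)) (hX : ARSys.IsStrict X) {r : ℕ}
    (h : ∀ (k : ℕ) (a : El (X.obj (op (k + 1)))), res X (Nat.le_succ k) a = 0 →
      a ∈ IM (J ^ (k + 1 - r)) (X.obj (op (k + 1)))) : Cond J X r := by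
  suffices ∀ (d n : ℕ) (a : El (X.obj (op (n + d)))), res X (Nat.le_add_right n d) a = 0 →
      a ∈ IM (J ^ (n + 1 - r)) (X.obj (op (n + d))) by
    intro n m hnm a ha
    obtain ⟨d, rfl⟩ := Nat.exists_eq_add_of_le hnm
    exact this d n a ha
  intro d
  induction d with
  | zero =>
    intro n a ha
    rw [res_self] at ha
    rw [ha]
    exact zero_mem _
  | succ d ih =>
    intro n a ha
    have hb := ih n (res X (show n + d ≤ n + (d + 1) by omega) a) (by rw [res_res]; exact ha)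
    obtain ⟨e, he, hee⟩ := IM_lift (hq _) (ARSys.tr X (show n + d ≤ n + (d + 1) by omega))
      ((strict_iff X).1 hX _ _ _) hb
    have := h (n + d) (a - e) (by
      rw [map_sub]
      exact sub_eq_zero.2 hee.symm)
    have h' := add_mem (pow_IM_le J (show n + 1 - r ≤ n + d + 1 - r by omega) _ this) he
    rwa [sub_add_cancel] at h'

theorem subLEIdeal_fker_iff (J : Ideal A) (X : ARSys.PS C) (k l : ℕ) :
    ARSys.SubLEIdeal (J ^ l) (ARSys.Fker X (k + 1)) ↔
      ∀ a, res X (Nat.le_succ k) a = 0 → a ∈ IM (J ^ l) (X.obj (op (k + 1))) := by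
  constructor
  · intro h a ha Z φ hφ
    obtain ⟨b, rfl⟩ := (rg_kernel (ARSys.tr X (Nat.le_succ k))).symm.subset ha
    rw [← ap_comp]
    exact (congrArg (fun f => ap f b) (h Z φ hφ)).trans (ap_zero b)
  · intro h Z φ hφ
    refine eq_zero fun b => ?_
    rw [ap_comp]
    exact h _ ((rg_kernel (ARSys.tr X (Nat.le_succ k))).subset ⟨b, rfl⟩) Z φ hφ

theorem exists_quot_system (hq : ∀ k, HQ C (J ^ k)) (X : ARSys.PS C) :
    ∃ (Y : ARSys.PS C) (q : X ⟶ Y), ∀ n, ARSys.IsQuot (J ^ (n + 1)) (q.app (op n)) := by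
  have hq' := fun i : ℕᵒᵖ => hq (i.unop + 1) (X.obj i)
  choose Q p hp using hq'
  have hex : ∀ (i j : ℕᵒᵖ) (φ : i ⟶ j), ∃! ψ : Q i ⟶ Q j, p i ≫ ψ = X.map φ ≫ p j :=
    fun i j φ => (hp i).2 _ _ (homKilled_of_killed _
      (killed_mono (Ideal.pow_le_pow_right (Nat.add_le_add_right (leOfHom φ.unop) 1)) (hp j).1))
  choose ψ hψ hu using hex
  refine ⟨{ obj := Q, map := fun {i j} φ => ψ i j φ, map_id := fun i => ?_,
            map_comp := fun {i j k} φ φ' => ?_ },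
    { app := p, naturality := fun i j φ => (hψ i j φ).symm }, fun n => hp (op n)⟩
  · exact (hu i i (𝟙 i) _ (by simp)).symm
  · exact (hu i k (φ ≫ φ') _ (by
      dsimp only
      rw [reassoc_of% (hψ i j φ), hψ j k φ', X.map_comp, Category.assoc])).symm

theorem exists_adic_of_cond (hq : ∀ k, HQ C (J ^ k)) (hX : ARSys.IsStrict X) {r : ℕ}
    (hc : Cond J X r) :
    ∃ (Y : ARSys.PS C) (q : (ARSys.shift C r).obj X ⟶ Y),
      (∀ n, ARSys.IsQuot (J ^ (n + 1)) (q.app (op n))) ∧ ARSys.IsAdic J Y := by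
  obtain ⟨Y, q, hqq⟩ := exists_quot_system hq ((ARSys.shift C r).obj X)
  have hX' := (strict_iff X).1 hX
  have hsq := fun n => ((isQuot_iff _).1 (hqq n)).2.1
  have hkq := fun n => ((isQuot_iff _).1 (hqq n)).2.2
  refine ⟨Y, q, hqq, adic_iff.2 ⟨fun n => (hqq n).1, fun n m hnm => ⟨fun y => ?_, fun y hy => ?_⟩⟩⟩
  · obtain ⟨x, rfl⟩ := hsq n y
    obtain ⟨x', rfl⟩ := hX' (n + r) (m + r) (Nat.add_le_add_right hnm r) x
    exact ⟨ap (q.app (op m)) x', (res_natural q hnm x').symm⟩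
  · obtain ⟨x, rfl⟩ : ∃ x : El (X.obj (op (m + r))), ap (q.app (op m)) x = y := hsq m y
    rw [← res_natural] at hy
    obtain ⟨e, he, hee⟩ := IM_lift (hq _)
      (ARSys.tr X (Nat.add_le_add_right hnm r)) (hX' _ _ _) (hkq n _ hy)
    have hk := hc (n + r) (m + r) (Nat.add_le_add_right hnm r) (x - e) (by
      rw [map_sub]
      exact sub_eq_zero.2 hee.symm)
    rw [show n + r + 1 - r = n + 1 by omega] at hk
    have h' := add_mem hk he
    rw [sub_add_cancel] at h'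
    exact IM_map (q.app (op m)) h'

theorem arAdic_of_quot (hq : ∀ k, HQ C (J ^ k)) (hX : ARSys.IsStrict X)
    (kX : ARSys.TermKilled J X) {r : ℕ} {q : (ARSys.shift C r).obj X ⟶ Y}
    (hqq : ∀ n : ℕ, ARSys.IsQuot (J ^ (n + 1)) (q.app (op n))) (hY : ARSys.IsAdic J Y) :
    ∃ u : Y ⟶ X, (∀ n, Function.Surjective (ap (u.app (op n)))) ∧
      ∀ n, ARSys.shiftMap X r n = q.app (op n) ≫ u.app (op n) := by
  have hg := fun n => (hqq n).2 _ (ARSys.shiftMap X r n) (homKilled_of_killed _ (kX n))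
  choose g hg hgu using hg
  have hs := fun n => ((isQuot_iff _).1 (hqq n)).2.1
  refine ⟨{ app := fun i => g i.unop, naturality := fun i j φ => hom_ext fun y => ?_ },
    fun n x => ?_, fun n => (hg n).symm⟩
  · obtain ⟨x, rfl⟩ := hs i.unop y
    rw [← ap_comp, ← ap_comp]
    refine congrArg (fun f => ap f x) ?_
    refine Eq.trans ?_ ((congrArg (· ≫ X.map φ) (hg i.unop).symm).trans (Category.assoc _ _ _))
    refine Eq.trans ?_ ((shiftNat X r).naturality φ)
    refine ((Category.assoc _ _ _).symm.trans (congrArg (· ≫ g j.unop) (q.naturality φ).symm)).trans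
      ((Category.assoc _ _ _).trans ?_)
    exact congrArg (_ ≫ ·) (hg j.unop)
  · obtain ⟨x', rfl⟩ := (strict_iff X).1 hX n (n + r) (Nat.le_add_right n r) x
    exact ⟨ap (q.app (op n)) x', by rw [← ap_comp]; exact congrArg (fun f => ap f x') (hg n)⟩

theorem arIso_of_quot_cond (hX : ARSys.IsStrict X) {r : ℕ} {q : (ARSys.shift C r).obj X ⟶ Y}
    (hqq : ∀ n : ℕ, ARSys.IsQuot (J ^ (n + 1)) (q.app (op n))) (hc : Cond J X r) {u : Y ⟶ X}
    (hu : ∀ n, ARSys.shiftMap X r n = q.app (op n) ≫ u.app (op n))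
    (hs : ∀ n, Function.Surjective (ap (u.app (op n)))) : ARB u r := by
  refine ⟨fun n m hnm hm y hy => ?_, fun n m hnm _ b => hs n _⟩
  obtain ⟨x, rfl⟩ := ((isQuot_iff _).1 (hqq m)).2.1 y
  rw [← ap_comp, ← hu m] at hy
  have hx := hc m (m + r) (Nat.le_add_right m r) x hy
  rw [← res_natural]
  exact killed_IM (hqq n).1 (IM_map _ (pow_IM_le J (by omega) _
    (res_IM _ (Nat.add_le_add_right hnm r) hx)))

/-- Characterisation of strict systems which are adic up to translation. -/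
theorem arAdic_strict_iff (hq : ∀ k, HQ C (J ^ k)) (hX : ARSys.IsStrict X)
    (kX : ARSys.TermKilled J X) : ARSys.IsARAdic J X ↔ ∃ r, Cond J X r := by
  constructor
  · rintro ⟨-, Y, u, hY, hu⟩
    obtain ⟨k, hk⟩ := (arIso_iff u).1 hu
    refine ⟨0 + k, cond_of_surj_arb (cond_of_adic hY) (fun n x => ?_) hk⟩
    obtain ⟨x', rfl⟩ := (strict_iff X).1 hX n (n + k) (Nat.le_add_right n k) x
    exact hk.coker n (n + k) _ le_rfl x'
  · rintro ⟨r, hc⟩
    obtain ⟨Y, q, hqq, hY⟩ := exists_adic_of_cond hq hX hc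
    obtain ⟨u, hs, hu⟩ := arAdic_of_quot hq hX kX hqq hY
    exact ⟨kX, Y, u, hY, (arIso_iff u).2 ⟨r, arIso_of_quot_cond hX hqq hc hu hs⟩⟩

theorem arAdic_iff_quot (hq : ∀ k, HQ C (J ^ k)) (hX : ARSys.IsStrict X)
    (kX : ARSys.TermKilled J X) :
    ARSys.IsARAdic J X ↔ ∃ (r : ℕ) (Y : ARSys.PS C) (q : (ARSys.shift C r).obj X ⟶ Y),
      (∀ n : ℕ, ARSys.IsQuot (J ^ (n + 1)) (q.app (op n))) ∧ ARSys.IsAdic J Y := by
  constructor
  · intro h
    obtain ⟨r, hc⟩ := (arAdic_strict_iff hq hX kX).1 h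
    exact ⟨r, exists_adic_of_cond hq hX hc⟩
  · rintro ⟨r, Y, q, hqq, hY⟩
    obtain ⟨u, hs, hu⟩ := arAdic_of_quot hq hX kX hqq hY
    refine ⟨kX, Y, u, hY, (arIso_iff u).2 ⟨r, ⟨fun n m hnm hm y hy => ?_,
      fun n m hnm _ b => hs n _⟩⟩⟩
    obtain ⟨x, rfl⟩ := ((isQuot_iff _).1 (hqq m)).2.1 y
    rw [← ap_comp, ← hu m, res_shiftMap] at hy
    rw [← res_natural]
    change ap (q.app (op n)) (res X (Nat.add_le_add_right hnm r) x) = 0
    have h0 : res X (Nat.add_le_add_right hnm r) x = 0 := by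
      rw [← res_res X hm (Nat.le_add_right m r) x, hy, map_zero]
    exact (congrArg (ap (q.app (op n))) h0).trans (map_zero (ap (q.app (op n))))

theorem arAdic_iff_fker (hq : ∀ k, HQ C (J ^ k)) (hX : ARSys.IsStrict X)
    (kX : ARSys.TermKilled J X) :
    ARSys.IsARAdic J X ↔ ∃ r : ℕ, 0 < r ∧ ∀ n : ℕ, ARSys.SubLEIdeal (J ^ (n - r)) (ARSys.Fker X n) := by
  rw [arAdic_strict_iff hq hX kX]
  constructor
  · rintro ⟨r, hc⟩
    refine ⟨r + 1, Nat.succ_pos r, fun n => ?_⟩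
    match n with
    | 0 =>
      intro Z φ hφ
      have : φ = 0 := by simpa using hφ 1 (by simp)
      rw [this, comp_zero]
    | k + 1 =>
      refine (subLEIdeal_fker_iff J X k _).2 fun a ha => ?_
      have := hc k (k + 1) (Nat.le_succ k) a ha
      exact pow_IM_le J (by omega) _ this
  · rintro ⟨r, -, h⟩
    exact ⟨r, cond_of_fker hq hX fun k a ha => (subLEIdeal_fker_iff J X k _).1 (h (k + 1)) a ha⟩

/-- A system with a strict subsystem. -/
theorem arAdic_iff_sub (hq : ∀ k, HQ C (J ^ k)) {I : ARSys.PS C} {ι : I ⟶ X} {r : ℕ}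
    (hι : ∀ n, Function.Injective (ap (ι.app (op n)))) (hI : ARSys.IsStrict I) (hr : ARB ι r)
    (kX : ARSys.TermKilled J X) : ARSys.IsARAdic J X ↔ ∃ s, Cond J I s := by
  constructor
  · rintro ⟨-, Y, v, hY, hv⟩
    obtain ⟨k, hk⟩ := (arIso_iff v).1 hv
    have hv' : ∀ n y, ∃ i, ap (ι.app (op n)) i = ap (v.app (op n)) y := fun n y => by
      obtain ⟨y', rfl⟩ := (strict_iff Y).1 (isStrict_of_isAdic hY) n (n + r) (Nat.le_add_right n r) y
      rw [res_natural]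
      exact hr.coker n (n + r) _ le_rfl _
    have hi : ∀ n i, ∃ y, ap (v.app (op n)) y = ap (ι.app (op n)) i := fun n i => by
      obtain ⟨i', rfl⟩ := (strict_iff I).1 hI n (n + k) (Nat.le_add_right n k) i
      rw [res_natural]
      exact hk.coker n (n + k) _ le_rfl _
    refine ⟨0 + k, fun n m hnm i hi0 => ?_⟩
    obtain ⟨y, hy⟩ := hi m i
    rcases le_or_gt k n with hkn | hkn
    · have h0 : ap (v.app (op n)) (res Y hnm y) = 0 := by
        rw [res_natural, hy, ← res_natural, hi0, map_zero]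
      have h1 := hk.ker (n - k) n (Nat.sub_le n k) (by omega) _ h0
      rw [res_res] at h1
      have hmem := cond_of_adic hY _ _ _ y h1
      have hfac : ∀ y, ∃ i, ap (ι.app (op m)) i = ap (v.app (op m)) y := hv' m
      haveI : Mono (ι.app (op m)) := (mono_iff _).2 (hι m)
      have hz : v.app (op m) ≫ cokernel.π (ι.app (op m)) = 0 := eq_zero fun z => by
        obtain ⟨j, hj⟩ := hfac z
        rw [ap_comp, ← hj, cokernel_π_ap]
      let l := Abelian.monoLift (ι.app (op m)) (v.app (op m)) hz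
      have hl : ap l y = i := hι m (by rw [← ap_comp, Abelian.monoLift_comp, hy])
      rw [← hl]
      exact pow_IM_le J (by omega) _ (IM_map l hmem)
    · rw [show n + 1 - (0 + k) = 0 by omega, pow_zero, Ideal.one_eq_top]
      simpa using smul_mem_IM (X := I.obj (op m)) (Submodule.mem_top (x := (1 : A))) i
  · intro h
    obtain ⟨-, Y, u, hY, hu⟩ := (arAdic_strict_iff hq hI (termKilled_of_inj hι kX)).2 h
    obtain ⟨k, hk⟩ := (arIso_iff u).1 hu
    exact ⟨kX, Y, u ≫ ι, hY, (arIso_iff _).2 ⟨k + r, hk.comp hr⟩⟩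

theorem mlar_of_arAdic (h : ARSys.IsARAdic J X) : ARSys.IsMLAR X := by
  obtain ⟨-, Y, u, hY, hu⟩ := h
  exact (mlar_iff_exists_strict X).2 ⟨Y, u, isStrict_of_isAdic hY, hu⟩

theorem mlar_kernel (hq : ∀ k, HQ C (J ^ k)) (h : SES S) (k₂ : ARSys.TermKilled J S.X₂)
    (h₂ : ARSys.IsMLAR S.X₂) (h₃ : ARSys.IsARAdic J S.X₃) : ARSys.IsMLAR S.X₁ := by
  obtain ⟨r, h₂⟩ := (mlar_iff _).1 h₂
  obtain ⟨-, Y, u, hY, hu⟩ := h₃
  obtain ⟨k, hk⟩ := (arIso_iff u).1 hu
  refine (mlar_iff _).2 ⟨r + k, fun n m M hnm hnM hm a => ?_⟩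
  let M₁ := max M (n + k)
  have e₁ : n + k ≤ M₁ := le_max_right _ _
  obtain ⟨b, hb⟩ := h₂ (n + k) m (M₁ + k) (by omega) (by omega) (by omega)
    (ap (S.f.app (op m)) a)
  obtain ⟨y, hy⟩ := hk.coker M₁ (M₁ + k) (Nat.le_add_right _ _) le_rfl (ap (S.g.app (op (M₁ + k))) b)
  have hy0 : res Y (show n ≤ M₁ by omega) y = 0 := by
    rw [← res_res Y (Nat.le_add_right n k) e₁]
    refine hk.ker n (n + k) _ le_rfl _ ?_
    rw [res_natural, hy, res_res, ← res_natural, hb, res_natural, h.zero, map_zero]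
  have hymem := ((adic_iff.1 hY).2 n M₁ (by omega)).2 y hy0
  obtain ⟨d, hd, hde⟩ := IM_lift (hq _) _ (h.surj M₁) (IM_map (u.app (op M₁)) hymem)
  obtain ⟨a', ha'⟩ := h.exact M₁ (res _ (Nat.le_add_right M₁ k) b - d) (by
    rw [map_sub, hde, hy, res_natural, sub_self])
  refine ⟨res _ (le_max_left M (n + k)) a', h.inj n ?_⟩
  rw [res_res, res_natural, ha', map_sub, res_res, res_killed k₂ _ le_rfl hd, sub_zero,
    ← res_res S.X₂ (Nat.le_add_right n k) (show n + k ≤ M₁ + k by omega), hb, res_res, res_natural]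

theorem arAdic_quotient (hq : ∀ k, HQ C (J ^ k)) (h : SES S) (k₃ : ARSys.TermKilled J S.X₃)
    (h₁ : ARSys.IsMLAR S.X₁) (h₂ : ARSys.IsARAdic J S.X₂) : ARSys.IsARAdic J S.X₃ := by
  obtain ⟨r₁, h₁⟩ := (mlar_iff _).1 h₁
  obtain ⟨r₂, hr₂⟩ := (mlar_iff _).1 (mlar_of_arAdic h₂)
  obtain ⟨I₂, ι₂, hι₂, hI₂, hb₂, -⟩ := exists_univ_image hr₂
  obtain ⟨s, hs⟩ := (arAdic_iff_sub hq hι₂ hI₂ hb₂ h₂.1).1 h₂
  obtain ⟨I₃, e, ι₃, hfac, he, hι₃⟩ := exists_image (ι₂ ≫ S.g)
  have happ : ∀ n i, ap (ι₃.app (op n)) (ap (e.app (op n)) i) =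
      ap (S.g.app (op n)) (ap (ι₂.app (op n)) i) := fun n i => by
    rw [← ap_comp, ← NatTrans.comp_app, hfac, NatTrans.comp_app, ap_comp]
  have hb₃ : ARB ι₃ r₂ := by
    refine ⟨fun n m hnm _ a ha => by rw [hι₃ m (ha.trans (map_zero _).symm), map_zero],
      fun n m hnm hm c => ?_⟩
    obtain ⟨b, rfl⟩ := h.surj m c
    obtain ⟨i, hi⟩ := hb₂.coker n m hnm hm b
    exact ⟨ap (e.app (op n)) i, by rw [happ, hi, res_natural]⟩
  refine (arAdic_iff_sub hq hι₃ (strict_of_surj he hI₂) hb₃ k₃).2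
    ⟨s + r₁, fun n m hnm c hc => ?_⟩
  obtain ⟨i, rfl⟩ := he m c
  rw [← res_natural] at hc
  have h0 : ap (S.g.app (op n)) (ap (ι₂.app (op n)) (res I₂ hnm i)) = 0 := by
    rw [← happ, hc, map_zero]
  obtain ⟨a, ha⟩ := h.exact n _ h0
  rcases le_or_gt r₁ n with hrn | hrn
  · obtain ⟨a', ha'⟩ := h₁ (n - r₁) n (m + r₂) (Nat.sub_le n r₁) (by omega) (by omega) a
    obtain ⟨i', hi'⟩ := hb₂.coker m (m + r₂) (Nat.le_add_right _ _) le_rfl
      (ap (S.f.app (op (m + r₂))) a')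
    have hker : res I₂ (show n - r₁ ≤ m by omega) (i - i') = 0 := by
      refine hι₂ _ ?_
      rw [map_zero, map_sub, map_sub, sub_eq_zero, res_natural ι₂ _ i', hi', res_res, ← res_natural,
        ha', res_natural S.f, ha, res_natural ι₂, res_natural ι₂, res_res]
    have hmem := IM_map (e.app (op m)) (hs _ _ _ _ hker)
    have he0 : ap (e.app (op m)) i' = 0 := hι₃ m (by
      rw [map_zero, happ, hi', res_natural, h.zero, map_zero])
    rw [map_sub, he0, sub_zero] at hmem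
    exact pow_IM_le J (by omega) _ hmem
  · rw [show n + 1 - (s + r₁) = 0 by omega, pow_zero, Ideal.one_eq_top]
    simpa using smul_mem_IM (X := I₃.obj (op m)) (Submodule.mem_top (x := (1 : A)))
      (ap (e.app (op m)) i)

end ARLib
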