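import Mathlib
import Groth.Agent.ARLib.Adic

/-!
# Chain conditions through elements
-/

set_option autoImplicit false
set_option linter.style.haveILetI false

universe w v u

open CategoryTheory CategoryTheory.Limits Opposite Pointwise

namespace ARLib

variable {C : Type u} [Category.{v} C] [Abelian C]

/-- Sets of elements which come from subobjects. -/
def IsSub {X : C} (s : Set (El X)) : Prop := ∃ S : Subobject X, rg S = s

theorem isSub_rg {X : C} (S : Subobject X) : IsSub (rg S) := ⟨S, rfl⟩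

theorem isSub_range {X Y : C} (f : X ⟶ Y) : IsSub (Set.range (ap f)) := ⟨_, rg_image f⟩

theorem isSub_univ (X : C) : IsSub (Set.univ : Set (El X)) := ⟨⊤, rg_top X⟩

theorem isSub_zero (X : C) : IsSub ({0} : Set (El X)) := ⟨⊥, rg_bot X⟩

theorem IsSub.zero_mem {X : C} {s : Set (El X)} (h : IsSub s) : (0 : El X) ∈ s := by
  obtain ⟨S, rfl⟩ := h
  exact ⟨0, map_zero _⟩

theorem IsSub.add_mem {X : C} {s : Set (El X)} (h : IsSub s) {a b : El X} (ha : a ∈ s)
    (hb : b ∈ s) : a + b ∈ s := by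
  obtain ⟨S, rfl⟩ := h
  obtain ⟨x, rfl⟩ := ha
  obtain ⟨y, rfl⟩ := hb
  exact ⟨x + y, map_add _ _ _⟩

theorem IsSub.sub_mem {X : C} {s : Set (El X)} (h : IsSub s) {a b : El X} (ha : a ∈ s)
    (hb : b ∈ s) : a - b ∈ s := by
  obtain ⟨S, rfl⟩ := h
  obtain ⟨x, rfl⟩ := ha
  obtain ⟨y, rfl⟩ := hb
  exact ⟨x - y, map_sub _ _ _⟩

theorem IsSub.image {X Y : C} (f : X ⟶ Y) {s : Set (El X)} (h : IsSub s) :
    IsSub (ap f '' s) := by
  obtain ⟨S, rfl⟩ := h
  refine ⟨imageSubobject (S.arrow ≫ f), ?_⟩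
  rw [rg_image, rg, ← Set.range_comp]
  exact congrArg Set.range (funext fun a => ap_comp _ _ a)

theorem IsSub.preimage {X Y : C} (f : X ⟶ Y) {s : Set (El Y)} (h : IsSub s) :
    IsSub (ap f ⁻¹' s) := by
  obtain ⟨S, rfl⟩ := h
  refine ⟨kernelSubobject (f ≫ cokernel.π S.arrow), ?_⟩
  rw [rg_kernel]
  ext x
  simp only [Set.mem_setOf_eq, Set.mem_preimage, ap_comp]
  exact ⟨exists_of_cokernel_π S.arrow _, fun ⟨a, ha⟩ => by rw [← ha, cokernel_π_ap]⟩

theorem IsSub.add {X : C} {s t : Set (El X)} (hs : IsSub s) (ht : IsSub t) : IsSub (s + t) := by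
  obtain ⟨S, rfl⟩ := hs
  obtain ⟨T, rfl⟩ := ht
  refine ⟨imageSubobject (biprod.desc S.arrow T.arrow), ?_⟩
  rw [rg_image]
  ext x
  constructor
  · rintro ⟨p, rfl⟩
    refine ⟨_, ⟨ap biprod.fst p, rfl⟩, _, ⟨ap biprod.snd p, rfl⟩, ?_⟩
    have h : biprod.desc S.arrow T.arrow =
        biprod.fst ≫ S.arrow - (-(biprod.snd ≫ T.arrow)) := by
      rw [sub_neg_eq_add, biprod.desc_eq]
    change ap S.arrow _ + ap T.arrow _ = _
    rw [h, ap_sub_hom, ← ap_comp, ← ap_comp]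
    have hn : ap (-(biprod.snd ≫ T.arrow)) p = -ap (biprod.snd ≫ T.arrow) p := by
      rw [← zero_sub (biprod.snd ≫ T.arrow), ap_sub_hom, ap_zero, zero_sub]
    rw [hn, sub_neg_eq_add]
  · rintro ⟨_, ⟨a, rfl⟩, _, ⟨b, rfl⟩, rfl⟩
    refine ⟨ap biprod.inl a + ap biprod.inr b, ?_⟩
    rw [map_add, ← ap_comp, ← ap_comp, biprod.inl_desc, biprod.inr_desc]

theorem IsSub.inter {X : C} {s t : Set (El X)} (hs : IsSub s) (ht : IsSub t) : IsSub (s ∩ t) := by
  obtain ⟨S, rfl⟩ := hs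
  have h := (ht.preimage S.arrow).image S.arrow
  rwa [Set.image_preimage_eq_range_inter] at h

/-- The two kinds of chains. -/
def Mon {α : Type*} (up : Bool) (s : ℕ → Set α) : Prop :=
  ∀ i j, i ≤ j → if up then s i ⊆ s j else s j ⊆ s i

theorem Mon.map {α β : Type*} {up : Bool} {s : ℕ → Set α} (h : Mon up s)
    (f : Set α → Set β) (hf : ∀ a b, a ⊆ b → f a ⊆ f b) : Mon up (fun i => f (s i)) := by
  intro i j hij
  have := h i j hij
  cases up <;> exact hf _ _ this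

theorem Mon.cases {α : Type*} {up : Bool} {s : ℕ → Set α} (h : Mon up s) {i j : ℕ} (hij : i ≤ j) :
    s i ⊆ s j ∨ s j ⊆ s i := by
  have := h i j hij
  cases up
  · exact Or.inr this
  · exact Or.inl this

/-- Chains of subobjects inside `t` stabilise. -/
def CC (up : Bool) {X : C} (t : Set (El X)) : Prop :=
  ∀ s : ℕ → Set (El X), (∀ i, IsSub (s i)) → (∀ i, s i ⊆ t) → Mon up s →
    ∃ n, ∀ i, n ≤ i → s i = s n

theorem CC.subset {up : Bool} {X : C} {t t' : Set (El X)} (h : CC up t) (ht : t' ⊆ t) :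
    CC up t' := fun s hs hst hm => h s hs (fun i => (hst i).trans ht) hm

theorem CC.image {up : Bool} {X Y : C} (f : X ⟶ Y) {t : Set (El X)} (ht : IsSub t) (h : CC up t) :
    CC up (ap f '' t) := by
  intro s hs hst hm
  obtain ⟨n, hn⟩ := h (fun i => ap f ⁻¹' s i ∩ t) (fun i => ((hs i).preimage f).inter ht)
    (fun i => Set.inter_subset_right)
    (hm.map (fun a => ap f ⁻¹' a ∩ t) fun a b hab => Set.inter_subset_inter_left _
      (Set.preimage_mono hab))
  refine ⟨n, fun i hi => ?_⟩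
  have h' : ∀ j, s j = ap f '' (ap f ⁻¹' s j ∩ t) := fun j => by
    ext y
    constructor
    · intro hy
      obtain ⟨x, hx, rfl⟩ := hst j hy
      exact ⟨x, ⟨hy, hx⟩, rfl⟩
    · rintro ⟨x, ⟨hx, -⟩, rfl⟩
      exact hx
  rw [h' i, h' n, hn i hi]

theorem CC.add {up : Bool} {X : C} {t u : Set (El X)} (ht : IsSub t) (hu : IsSub u)
    (h₁ : CC up t) (h₂ : CC up u) : CC up (t + u) := by
  intro s hs hst hm
  obtain ⟨n₁, hn₁⟩ := h₁ (fun i => s i ∩ t) (fun i => (hs i).inter ht)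
    (fun i => Set.inter_subset_right) (hm.map (· ∩ t) fun a b hab => Set.inter_subset_inter_left _ hab)
  obtain ⟨n₂, hn₂⟩ := h₂ (fun i => (s i + t) ∩ u) (fun i => ((hs i).add ht).inter hu)
    (fun i => Set.inter_subset_right)
    (hm.map (fun a => (a + t) ∩ u) fun a b hab => Set.inter_subset_inter_left _
      (Set.add_subset_add_right hab))
  refine ⟨max n₁ n₂, fun i hi => ?_⟩
  have key : ∀ a b, s a ⊆ s b → s a ∩ t = s b ∩ t → (s a + t) ∩ u = (s b + t) ∩ u → s b ⊆ s a := by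
    intro a b hab h1 h2 y hy
    obtain ⟨y₁, hy₁, y₂, hy₂, rfl⟩ := hst b hy
    have hy' : y₂ ∈ (s b + t) ∩ u :=
      ⟨⟨y₁ + y₂, hy, 0 - y₁, ht.sub_mem ht.zero_mem hy₁, by abel⟩, hy₂⟩
    rw [← h2] at hy'
    obtain ⟨⟨a₁, ha₁, t₁, ht₁, he⟩, -⟩ := hy'
    have hmem : y₁ + t₁ ∈ s b ∩ t := by
      refine ⟨?_, ht.add_mem hy₁ ht₁⟩
      have := (hs b).sub_mem hy (hab ha₁)
      rwa [← he, show y₁ + (a₁ + t₁) - a₁ = y₁ + t₁ by abel] at this
    rw [← h1] at hmem
    have := (hs a).add_mem ha₁ hmem.1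
    dsimp only at he ⊢
    rwa [show a₁ + (y₁ + t₁) = y₁ + (a₁ + t₁) by abel, he] at this
  have e₁ : s i ∩ t = s (max n₁ n₂) ∩ t := (hn₁ i (by omega)).trans (hn₁ _ (le_max_left _ _)).symm
  have e₂ : (s i + t) ∩ u = (s (max n₁ n₂) + t) ∩ u :=
    (hn₂ i (by omega)).trans (hn₂ _ (le_max_right _ _)).symm
  rcases hm.cases hi with h | h
  · exact Set.Subset.antisymm (key _ _ h e₁.symm e₂.symm) h
  · exact Set.Subset.antisymm h (key _ _ h e₁ e₂)

theorem CC.zero (up : Bool) (X : C) : CC up ({0} : Set (El X)) := fun s hs hst _ =>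
  ⟨0, fun i _ => ((Set.subset_singleton_iff_eq.1 (hst i)).resolve_left
    (Set.nonempty_iff_ne_empty.1 ⟨0, (hs i).zero_mem⟩)).trans
    ((Set.subset_singleton_iff_eq.1 (hst 0)).resolve_left
      (Set.nonempty_iff_ne_empty.1 ⟨0, (hs 0).zero_mem⟩)).symm⟩

/-- Kernel and image. -/
theorem CC.of_ker {up : Bool} {X Y : C} (f : X ⟶ Y) {t : Set (El X)} (ht : IsSub t)
    (h₁ : CC up {a | a ∈ t ∧ ap f a = 0}) (h₂ : CC up (ap f '' t)) : CC up t := by
  intro s hs hst hm
  have hk : IsSub {a | a ∈ t ∧ ap f a = 0} := ht.inter ((isSub_zero Y).preimage f)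
  obtain ⟨n₁, hn₁⟩ := h₁ (fun i => s i ∩ {a | a ∈ t ∧ ap f a = 0}) (fun i => (hs i).inter hk)
    (fun i => Set.inter_subset_right)
    (hm.map (· ∩ {a | a ∈ t ∧ ap f a = 0}) fun a b hab => Set.inter_subset_inter_left _ hab)
  obtain ⟨n₂, hn₂⟩ := h₂ (fun i => ap f '' s i) (fun i => (hs i).image f)
    (fun i => Set.image_mono (hst i)) (hm.map (ap f '' ·) fun a b hab => Set.image_mono hab)
  refine ⟨max n₁ n₂, fun i hi => ?_⟩
  have key : ∀ a b, s a ⊆ s b → s a ∩ {x | x ∈ t ∧ ap f x = 0} = s b ∩ {x | x ∈ t ∧ ap f x = 0} →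
      ap f '' s a = ap f '' s b → s b ⊆ s a := by
    intro a b hab h1 h2 y hy
    obtain ⟨z, hz, hze⟩ : ap f y ∈ ap f '' s a := h2 ▸ ⟨y, hy, rfl⟩
    have hmem : y - z ∈ s b ∩ {x | x ∈ t ∧ ap f x = 0} :=
      ⟨(hs b).sub_mem hy (hab hz), ht.sub_mem (hst b hy) (hst a hz),
        by rw [map_sub, hze, sub_self]⟩
    rw [← h1] at hmem
    have := (hs a).add_mem hz hmem.1
    rwa [add_sub_cancel] at this
  have e₁ := (hn₁ i (by omega)).trans (hn₁ (max n₁ n₂) (le_max_left _ _)).symm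
  have e₂ := (hn₂ i (by omega)).trans (hn₂ (max n₁ n₂) (le_max_right _ _)).symm
  rcases hm.cases hi with h | h
  · exact Set.Subset.antisymm (key _ _ h e₁.symm e₂.symm) h
  · exact Set.Subset.antisymm h (key _ _ h e₁ e₂)

theorem cc_true_iff (X : C) : CC true (Set.univ : Set (El X)) ↔ IsNoetherianObject X := by
  rw [isNoetherianObject_iff_monotone_chain_condition]
  constructor
  · intro h f
    obtain ⟨n, hn⟩ := h (fun i => rg (f i)) (fun i => isSub_rg _) (fun i => Set.subset_univ _)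
      fun i j hij => (le_iff_rg _ _).1 (f.monotone hij)
    exact ⟨n, fun m hm => (eq_of_rg (hn m hm)).symm⟩
  · intro h s hs _ hm
    choose S hS using hs
    obtain ⟨n, hn⟩ := h ⟨S, fun i j hij => (le_iff_rg _ _).2 (by rw [hS, hS]; exact hm i j hij)⟩
    refine ⟨n, fun i hi => ?_⟩
    have := congrArg rg (hn i hi)
    change rg (S n) = rg (S i) at this
    rwa [hS, hS, eq_comm] at this

theorem cc_false_iff (X : C) : CC false (Set.univ : Set (El X)) ↔ IsArtinianObject X := by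
  rw [isArtinianObject_iff_antitone_chain_condition]
  constructor
  · intro h f
    obtain ⟨n, hn⟩ := h (fun i => rg (OrderDual.ofDual (f i))) (fun i => isSub_rg _)
      (fun i => Set.subset_univ _)
      fun i j hij => (le_iff_rg (OrderDual.ofDual (f j)) (OrderDual.ofDual (f i))).1 (f.monotone hij)
    exact ⟨n, fun m hm => OrderDual.ofDual.injective (eq_of_rg (hn m hm)).symm⟩
  · intro h s hs _ hm
    choose S hS using hs
    obtain ⟨n, hn⟩ := h ⟨fun i => OrderDual.toDual (S i),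
      fun i j hij => (le_iff_rg (S j) (S i)).2 (by rw [hS, hS]; exact hm i j hij)⟩
    refine ⟨n, fun i hi => ?_⟩
    have := congrArg rg (OrderDual.toDual.injective (hn i hi))
    rwa [hS, hS, eq_comm] at this

/-- Extensions. -/
theorem cc_ext {up : Bool} {X Y Z : C} (f : X ⟶ Y) (g : Y ⟶ Z)
    (hex : ∀ b, ap g b = 0 → ∃ a, ap f a = b)
    (h₁ : CC up (Set.univ : Set (El X))) (h₃ : CC up (Set.univ : Set (El Z))) :
    CC up (Set.univ : Set (El Y)) :=
  CC.of_ker g (isSub_univ Y) ((CC.image f (isSub_univ X) h₁).subset fun b hb =>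
    (hex b hb.2).imp fun a ha => ⟨trivial, ha⟩) (h₃.subset (Set.subset_univ _))

theorem cc_of_inj {up : Bool} {X Y : C} (f : X ⟶ Y) (hf : Function.Injective (ap f))
    (h : CC up (Set.univ : Set (El Y))) : CC up (Set.univ : Set (El X)) := by
  intro s hs _ hm
  obtain ⟨n, hn⟩ := h (fun i => ap f '' s i) (fun i => (hs i).image f) (fun i => Set.subset_univ _)
    (hm.map (ap f '' ·) fun a b hab => Set.image_mono hab)
  exact ⟨n, fun i hi => Set.image_injective.2 hf (hn i hi)⟩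

theorem cc_of_surj {up : Bool} {X Y : C} (f : X ⟶ Y) (hf : Function.Surjective (ap f))
    (h : CC up (Set.univ : Set (El X))) : CC up (Set.univ : Set (El Y)) :=
  (CC.image f (isSub_univ X) h).subset fun y _ => (hf y).imp fun a ha => ⟨trivial, ha⟩

end ARLib
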