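import Mathlib
import Groth.Agent.ARLib.ACC

/-!
# The graded object of an adic system is noetherian
-/

set_option autoImplicit false
set_option linter.style.haveILetI false

universe w v u

open CategoryTheory CategoryTheory.Limits Opposite Pointwise

namespace ARLib

variable {C : Type u} [Category.{v} C] [Abelian C]

/-- Preimages of iterates of an operator. -/
noncomputable def iterPre {G : ℕ → C} (t : ∀ q, G q ⟶ G (q + 1)) (K M : ∀ q, Set (El (G q))) :
    ℕ → ∀ q, Set (El (G q))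
  | 0, q => M q
  | j + 1, q => K q ∩ ap (t q) ⁻¹' iterPre t K M j (q + 1)

/-- A Hilbert basis theorem. -/
theorem hilbert_basis (d : ℕ) : ∀ {G : ℕ → C} (t : Fin d → ∀ q, G q ⟶ G (q + 1))
    (_ : ∀ (i j : Fin d) q, t i q ≫ t j (q + 1) = t j q ≫ t i (q + 1))
    (K B : ∀ q, Set (El (G q))) (_ : ∀ q, IsSub (K q)) (_ : ∀ q, IsSub (B q))
    (_ : ∀ q, B q ⊆ K q) (_ : ∀ i q x, x ∈ K q → ap (t i q) x ∈ K (q + 1))
    (_ : ∀ i q x, x ∈ B q → ap (t i q) x ∈ B (q + 1))
    (_ : ∀ q (S : Set (El (G (q + 1)))), IsSub S → B (q + 1) ⊆ S →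
      (∀ i x, x ∈ K q → ap (t i q) x ∈ S) → K (q + 1) ⊆ S)
    (_ : CC true (K 0)) (M : ℕ → ∀ q, Set (El (G q))) (_ : ∀ n q, IsSub (M n q))
    (_ : ∀ n q, B q ⊆ M n q) (_ : ∀ n q, M n q ⊆ K q)
    (_ : ∀ n i q x, x ∈ M n q → ap (t i q) x ∈ M n (q + 1))
    (_ : ∀ n m q, n ≤ m → M n q ⊆ M m q),
    ∃ n₀, ∀ n, n₀ ≤ n → ∀ q, M n q = M n₀ q := by
  induction d with
  | zero =>
    intro G t _ K B hK hB hBK _ _ hgen h0 M hM hBM hMK _ hmono
    obtain ⟨n₀, hn₀⟩ := h0 (fun n => M n 0) (fun n => hM n 0) (fun n => hMK n 0)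
      fun i j hij => hmono i j 0 hij
    refine ⟨n₀, fun n hn q => ?_⟩
    match q with
    | 0 => exact hn₀ n hn
    | q + 1 =>
      have hB' := hgen q (B (q + 1)) (hB _) subset_rfl fun i => i.elim0
      rw [Set.Subset.antisymm ((hMK n _).trans hB') (hBM n _),
        Set.Subset.antisymm ((hMK n₀ _).trans hB') (hBM n₀ _)]
  | succ d ih =>
    intro G t hcomm K B hK hB hBK hKt hBt hgen h0 M hM hBM hMK hMt hmono
    let tl := t (Fin.last d)
    let B' : ∀ q, Set (El (G q)) := fun q =>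
      match q with
      | 0 => B 0
      | q + 1 => B (q + 1) + ap (tl q) '' K q
    have hB' : ∀ q, IsSub (B' q) := fun q => by
      match q with
      | 0 => exact hB 0
      | q + 1 => exact (hB _).add ((hK q).image _)
    have hB'K : ∀ q, B' q ⊆ K q := fun q => by
      match q with
      | 0 => exact hBK 0
      | q + 1 =>
        rintro _ ⟨b, hb, _, ⟨k, hk, rfl⟩, rfl⟩
        exact (hK _).add_mem (hBK _ hb) (hKt _ _ _ hk)
    have hB'_mem : ∀ q, B q ⊆ B' q := fun q => by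
      match q with
      | 0 => exact subset_rfl
      | q + 1 => exact fun b hb => ⟨b, hb, 0, ((hK q).image _).zero_mem, add_zero b⟩
    have hB't : ∀ (i : Fin (d + 1)) q x, x ∈ B' q → ap (t i q) x ∈ B' (q + 1) := fun i q => by
      match q with
      | 0 => exact fun x hx => hB'_mem _ (hBt i 0 x hx)
      | q + 1 =>
        rintro _ ⟨b, hb, _, ⟨k, hk, rfl⟩, rfl⟩
        refine ⟨_, hBt i _ b hb, _, ⟨ap (t i q) k, hKt _ _ _ hk, rfl⟩, ?_⟩
        change _ + _ = ap (t i (q + 1)) (b + ap (tl q) k)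
        rw [map_add, ← ap_comp, ← ap_comp, hcomm]
    let W : ℕ → ℕ → ∀ q, Set (El (G q)) := fun n => iterPre tl K (M n)
    have hW : ∀ n j q, IsSub (W n j q) := fun n j => by
      induction j with
      | zero => exact hM n
      | succ j hj => exact fun q => (hK q).inter ((hj (q + 1)).preimage _)
    have hWK : ∀ n j q, W n j q ⊆ K q := fun n j q => by
      match j with
      | 0 => exact hMK n q
      | j + 1 => exact Set.inter_subset_left
    have hWmono : ∀ n m j q, n ≤ m → W n j q ⊆ W m j q := fun n m j => by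
      induction j with
      | zero => exact hmono n m
      | succ j hj =>
        exact fun q h => Set.inter_subset_inter_right _ (Set.preimage_mono (hj (q + 1) h))
    have hWt : ∀ n j (i : Fin (d + 1)) q x, x ∈ W n j q → ap (t i q) x ∈ W n j (q + 1) :=
      fun n j => by
        induction j with
        | zero => exact hMt n
        | succ j hj =>
          intro i q x hx
          refine ⟨hKt _ _ _ hx.1, ?_⟩
          change ap (tl (q + 1)) (ap (t i q) x) ∈ W n j (q + 1 + 1)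
          rw [← ap_comp, hcomm, ap_comp]
          exact hj i _ _ hx.2
    have hWsucc : ∀ n j q, W n j q ⊆ W n (j + 1) q := fun n j q x hx =>
      ⟨hWK n j q hx, hWt n j (Fin.last d) q x hx⟩
    have hWle : ∀ n j j' q, j ≤ j' → W n j q ⊆ W n j' q := fun n j j' q h => by
      induction h with
      | refl => exact subset_rfl
      | step _ hs => exact hs.trans (hWsucc n _ q)
    let L : ℕ → ℕ → ∀ q, Set (El (G q)) := fun n j q => W n j q + B' q
    have stab : ∀ N : ℕ → ℕ × ℕ, (∀ a b, a ≤ b → (N a).1 ≤ (N b).1 ∧ (N a).2 ≤ (N b).2) →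
        ∃ k, ∀ a, k ≤ a → ∀ q, L (N a).1 (N a).2 q = L (N k).1 (N k).2 q := fun N hN =>
      ih (fun i => t i.castSucc) (fun i j => hcomm _ _) K B' hK hB' hB'K (fun i => hKt _)
        (fun i => hB't _)
        (fun q S hS hBS hts => hgen q S hS ((hB'_mem _).trans hBS) fun i x hx => by
          induction i using Fin.lastCases with
          | last => exact hBS ⟨0, (hB _).zero_mem, _, ⟨x, hx, rfl⟩, zero_add _⟩
          | cast i => exact hts i x hx)
        h0 (fun a => L (N a).1 (N a).2) (fun a q => (hW _ _ q).add (hB' q))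
        (fun a q b hb => ⟨0, (hW _ _ q).zero_mem, b, hb, zero_add b⟩)
        (fun a q => by
          rintro _ ⟨x, hx, y, hy, rfl⟩
          exact (hK q).add_mem (hWK _ _ q hx) (hB'K q hy))
        (fun a i q => by
          rintro _ ⟨x, hx, y, hy, rfl⟩
          exact ⟨_, hWt _ _ _ q x hx, _, hB't _ q y hy, (map_add _ x y).symm⟩)
        (fun a b q hab => Set.add_subset_add_right
          (((hWmono _ _ _ q (hN a b hab).1)).trans (hWle _ _ _ q (hN a b hab).2)))
    obtain ⟨k, hk⟩ := stab (fun a => (a, a)) fun a b h => ⟨h, h⟩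
    have hj : ∀ j, ∃ m, ∀ n, m ≤ n → ∀ q, L n j q = L m j q := fun j =>
      stab (fun a => (a, j)) fun a b h => ⟨h, le_rfl⟩
    choose m hm using hj
    let n₀ := max k ((Finset.range k).sup m)
    have hL : ∀ n, n₀ ≤ n → ∀ j q, L n j q = L n₀ j q := by
      intro n hn j q
      rcases lt_or_ge j k with hjk | hjk
      · have : m j ≤ n₀ :=
          (Finset.le_sup (f := m) (Finset.mem_range.2 hjk)).trans (le_max_right _ _)
        rw [hm j n (this.trans hn) q, hm j n₀ this q]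
      · have e : ∀ n', k ≤ n' → L n' j q = L k k q := fun n' hn' => by
          apply Set.Subset.antisymm
          · rw [← hk (max n' j) (by omega) q]
            exact Set.add_subset_add_right ((hWmono _ _ _ q (le_max_left _ _)).trans
              (hWle _ _ _ q (le_max_right _ _)))
          · exact Set.add_subset_add_right ((hWmono _ _ _ q hn').trans (hWle _ _ _ q hjk))
        rw [e n ((le_max_left _ _).trans hn), e n₀ (le_max_left _ _)]
    refine ⟨n₀, fun n hn q => Set.Subset.antisymm ?_ (hmono n₀ n q hn)⟩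
    suffices ∀ q j, W n j q ⊆ W n₀ j q from this q 0
    intro q
    induction q with
    | zero =>
      intro j x hx
      have hx' : x ∈ L n j 0 := ⟨x, hx, 0, (hB' 0).zero_mem, add_zero x⟩
      rw [hL n hn j 0] at hx'
      obtain ⟨w, hw, b, hb, rfl⟩ := hx'
      exact (hW _ _ _).add_mem hw (hWle n₀ 0 j 0 (Nat.zero_le j) (hBM n₀ 0 hb))
    | succ q hq =>
      intro j x hx
      have hx' : x ∈ L n j (q + 1) := ⟨x, hx, 0, (hB' _).zero_mem, add_zero x⟩
      rw [hL n hn j] at hx'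
      obtain ⟨w, hw, _, ⟨b, hb, _, ⟨y, hy, rfl⟩, rfl⟩, rfl⟩ := hx'
      have hb' : b ∈ W n₀ j (q + 1) := hWle n₀ 0 j _ (Nat.zero_le j) (hBM n₀ _ hb)
      have hty : ap (tl q) y ∈ W n j (q + 1) := by
        have := (hW n j (q + 1)).sub_mem ((hW n j _).sub_mem hx (hWmono _ _ _ _ hn hw))
          (hWmono _ _ _ _ hn hb')
        change w + (b + ap (tl q) y) - w - b ∈ _ at this
        rwa [show w + (b + ap (tl q) y) - w - b = ap (tl q) y by abel] at this
      exact (hW _ _ _).add_mem hw ((hW _ _ _).add_mem hb' (hq (j + 1) ⟨hy, hty⟩).2)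

section Adic

variable {A : Type w} [CommRing A] [Linear A C] {J : Ideal A} {X : ARSys.PS C}

theorem smul_IM {J : Ideal A} {k l : ℕ} {Y : C} {a : A} (ha : a ∈ J ^ l) {z : El Y}
    (hz : z ∈ IM (J ^ k) Y) : ap (a • 𝟙 Y) z ∈ IM (J ^ (k + l)) Y := fun Z φ hφ => by
  rw [← ap_comp, Linear.smul_comp, Category.id_comp]
  refine hz Z (a • φ) fun b hb => ?_
  rw [smul_smul]
  exact hφ _ (by rw [pow_add]; exact Ideal.mul_mem_mul hb ha)

theorem mem_rg_Fsub (X : ARSys.PS C) (k n : ℕ) (hk : k ≤ n) (a : El (X.obj (op n))) :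
    a ∈ rg (ARSys.Fsub X (k + 1) n) ↔ res X hk a = 0 := by
  have : ARSys.Fsub X (k + 1) n = kernelSubobject (ARSys.tr X hk) := dif_pos hk
  rw [this, rg_kernel]
  rfl

theorem mem_rg_Fsub_zero (X : ARSys.PS C) (n : ℕ) (a : El (X.obj (op n))) :
    a ∈ rg (ARSys.Fsub X 0 n) := by
  change a ∈ rg (⊤ : Subobject (X.obj (op n)))
  rw [rg_top]; trivial

/-- In an adic system the graded piece is `J^q X_q`. -/
theorem rg_Fsub_eq (hX : ARSys.IsAdic J X) (q : ℕ) :
    rg (ARSys.Fsub X q q) = IM (J ^ q) (X.obj (op q)) := by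
  ext a
  match q with
  | 0 =>
    refine iff_of_true (mem_rg_Fsub_zero X 0 a) ?_
    rw [pow_zero, Ideal.one_eq_top]
    simpa using smul_mem_IM (X := X.obj (op 0)) (Submodule.mem_top (x := (1 : A))) a
  | k + 1 =>
    rw [mem_rg_Fsub X k (k + 1) (Nat.le_succ k)]
    exact ⟨fun h => ((adic_iff.1 hX).2 k (k + 1) _).2 a h,
      fun h => res_killed hX.1 _ le_rfl h⟩

/-- The multiplication by elements of `J`. -/
theorem exists_psi (hX : ARSys.IsAdic J X) {a : A} (ha : a ∈ J) (q : ℕ) :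
    ∃ ψ : X.obj (op q) ⟶ X.obj (op (q + 1)),
      ∀ z, ap ψ (res X (Nat.le_succ q) z) = ap (a • 𝟙 (X.obj (op (q + 1)))) z := by
  haveI : Epi (ARSys.tr X (Nat.le_succ q)) :=
    (epi_iff _).2 ((adic_iff.1 hX).2 q (q + 1) _).1
  obtain ⟨ψ, hψ⟩ := exists_factor (ARSys.tr X (Nat.le_succ q)) (a • 𝟙 (X.obj (op (q + 1))))
    fun z hz => killed_IM (hX.1 (q + 1)) (smul_IM (k := q + 1) (l := 1) (by rwa [pow_one])
      (((adic_iff.1 hX).2 q (q + 1) _).2 z hz))
  exact ⟨ψ, fun z => by rw [res, ← ap_comp, hψ]⟩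

theorem ap_smul_natural {Y Z : C} (f : Y ⟶ Z) (a : A) (z : El Y) :
    ap f (ap (a • 𝟙 Y) z) = ap (a • 𝟙 Z) (ap f z) := by
  rw [← ap_comp, ← ap_comp, Linear.smul_comp, Category.id_comp, Linear.comp_smul, Category.comp_id]

theorem res_smul {n m : ℕ} (h : n ≤ m) (a : A) (z : El (X.obj (op m))) :
    res X h (ap (a • 𝟙 (X.obj (op m))) z) = ap (a • 𝟙 (X.obj (op n))) (res X h z) :=
  ap_smul_natural _ a z

/-- Chains of stable families in the graded object stabilise. -/
theorem graded_chain [IsNoetherianRing A] (hX : ARSys.IsAdic J X)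
    (h0 : CC true (Set.univ : Set (El (X.obj (op 0))))) (M : ℕ → ∀ q, Set (El (X.obj (op q))))
    (hM : ∀ n q, IsSub (M n q)) (hMF : ∀ n q, M n q ⊆ rg (ARSys.Fsub X q q))
    (hmono : ∀ n m q, n ≤ m → M n q ⊆ M m q)
    (hst : ∀ n, ∀ a ∈ J, ∀ q z, res X (Nat.le_succ q) z ∈ M n q →
      ap (a • 𝟙 (X.obj (op (q + 1)))) z ∈ M n (q + 1)) :
    ∃ n₀, ∀ n, n₀ ≤ n → ∀ q, M n q = M n₀ q := by
  obtain ⟨d, g, hg⟩ := Submodule.fg_iff_exists_fin_generating_family.1 (IsNoetherian.noetherian J)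
  have hgJ : ∀ i, g i ∈ J := fun i => hg ▸ Submodule.subset_span ⟨i, rfl⟩
  choose ψ hψ using fun i q => exists_psi hX (hgJ i) q
  have hsurj : ∀ n m (h : n ≤ m), Function.Surjective (res X h) :=
    (strict_iff X).1 (isStrict_of_isAdic hX)
  let K : ∀ q, Set (El (X.obj (op q))) := fun q => rg (ARSys.Fsub X q q)
  have hKI : ∀ q, K q = IM (J ^ q) (X.obj (op q)) := rg_Fsub_eq hX
  have hq : ∀ k, HQ C (J ^ k) := hq_pow (Or.inl (IsNoetherian.noetherian J))
  have hKt : ∀ i q x, x ∈ K q → ap (ψ i q) x ∈ K (q + 1) := fun i q x hx => by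
    rw [hKI] at hx ⊢
    obtain ⟨z, hz, rfl⟩ := IM_lift (hq q) (ARSys.tr X (Nat.le_succ q)) (hsurj _ _ _) hx
    refine (congrArg (· ∈ IM (J ^ (q + 1)) _) (hψ i q z)).mpr ?_
    exact smul_IM (l := 1) (by rw [pow_one]; exact hgJ i) hz
  refine hilbert_basis d ψ (fun i j q => hom_ext fun x => ?_) K (fun q => {0})
    (fun q => isSub_rg _) (fun q => isSub_zero _)
    (fun q => Set.singleton_subset_iff.2 (isSub_rg _).zero_mem) hKt
    (fun i q x hx => by rw [Set.mem_singleton_iff.1 hx, map_zero]; rfl)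
    (fun q S hS _ hts => ?_) (h0.subset (Set.subset_univ _)) M hM
    (fun n q => Set.singleton_subset_iff.2 (hM n q).zero_mem) hMF
    (fun n i q x hx => ?_) hmono
  · obtain ⟨z, rfl⟩ := hsurj q (q + 1 + 1) (by omega) x
    rw [ap_comp, ap_comp, ← res_res X (Nat.le_succ q) (Nat.le_succ (q + 1)), hψ, hψ,
      ← res_smul, ← res_smul]
    rw [hψ, hψ, ← ap_comp, ← ap_comp, Linear.smul_comp, Category.id_comp, Linear.smul_comp,
      Category.id_comp, smul_smul, smul_smul, mul_comm]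
  · intro z hz
    rw [hKI] at hz
    obtain ⟨S', hS'⟩ := hS
    have hφ : ARSys.HomKilledBy (J ^ (q + 1)) (cokernel.π S'.arrow) := fun a ha => by
      rw [pow_succ'] at ha
      refine Submodule.mul_induction_on ha (fun b hb c hc => ?_) fun b c hb hc => by
        rw [add_smul, hb, hc, add_zero]
      rw [← hg] at hb
      refine Submodule.span_induction ?_ (by rw [zero_mul, zero_smul])
        (fun x y _ _ hx hy => by rw [add_mul, add_smul, hx, hy, add_zero])
        (fun r x _ hx => by rw [smul_eq_mul, mul_assoc, mul_smul, hx, smul_zero]) hb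
      rintro _ ⟨i, rfl⟩
      refine eq_zero fun w => ?_
      have hmem : ap ((g i * c) • 𝟙 (X.obj (op (q + 1)))) w ∈ rg S' := by
        rw [hS', show (g i * c) • 𝟙 (X.obj (op (q + 1))) =
          (c • 𝟙 (X.obj (op (q + 1)))) ≫ (g i • 𝟙 _) by
            rw [Linear.comp_smul, Category.comp_id, smul_smul], ap_comp, ← hψ]
        refine hts i _ ?_
        rw [hKI]
        exact res_IM q _ (smul_mem_IM hc w)
      obtain ⟨s, hs⟩ := hmem
      rw [← Category.id_comp (cokernel.π S'.arrow), ← Linear.smul_comp, ap_comp, ← hs,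
        cokernel_π_ap]
    obtain ⟨s, hs⟩ := exists_of_cokernel_π S'.arrow z (hz _ _ hφ)
    exact hS' ▸ ⟨s, hs⟩
  · obtain ⟨z, rfl⟩ := hsurj q (q + 1) (Nat.le_succ q) x
    rw [hψ]
    exact hst n _ (hgJ i) q z hx

theorem grSub_stable {M : (q : ℕ) → Subobject (X.obj (op q))} (hM : ARSys.IsGrSub J X M) {a : A}
    (ha : a ∈ J) (q : ℕ) (z : El (X.obj (op (q + 1))))
    (hz : res X (Nat.le_succ q) z ∈ rg (M q)) :
    ap (a • 𝟙 (X.obj (op (q + 1)))) z ∈ rg (M (q + 1)) := by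
  have key : ∀ (m : ℕ) (h : q ≤ m) (_ : m = 1 + q) (z : El (X.obj (op m))),
      res X h z ∈ rg (M q) → ap (a • 𝟙 (X.obj (op m))) z ∈ rg (M m) := by
    rintro m h rfl z hz
    have hle := (le_iff_rg _ _).1 (hM.2 1 q a (by rwa [pow_one]))
    refine hle ?_
    rw [rg_image]
    obtain ⟨w, hw⟩ := hz
    let P := (Subobject.pullback (ARSys.tr X (Nat.le_add_left q 1))).obj (M q)
    obtain ⟨p, hp⟩ : z ∈ rg P := by
      have hz0 : ap (ARSys.tr X (Nat.le_add_left q 1) ≫ cokernel.π (M q).arrow) z = 0 := by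
        rw [ap_comp]
        change ap _ (res X h z) = 0
        rw [← hw, cokernel_π_ap]
      obtain ⟨k, rfl⟩ := exists_kernel_ι _ z hz0
      let f := Abelian.monoLift (M q).arrow
        (kernel.ι (ARSys.tr X (Nat.le_add_left q 1) ≫ cokernel.π (M q).arrow) ≫
          ARSys.tr X (Nat.le_add_left q 1)) (by rw [Category.assoc, kernel.condition])
      refine ⟨ap ((Subobject.isPullback (ARSys.tr X (Nat.le_add_left q 1)) (M q)).lift f (kernel.ι _)
        (Abelian.monoLift_comp _ _ _)) k, ?_⟩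
      rw [← ap_comp, IsPullback.lift_snd]
    exact ⟨p, by rw [ap_comp, hp]⟩
  exact key (q + 1) (Nat.le_succ q) (Nat.add_comm q 1) z hz

theorem grSub_chain [IsNoetherianRing A] (hX : ARSys.IsAdicNoeth J X)
    (M : ℕ → (q : ℕ) → Subobject (X.obj (op q))) (hM : ∀ i : ℕ, ARSys.IsGrSub J X (M i))
    (hmono : Monotone M) : ∃ i₀ : ℕ, ∀ i : ℕ, i₀ ≤ i → M i = M i₀ := by
  obtain ⟨n₀, hn₀⟩ := graded_chain hX.1 ((cc_true_iff _).2 (hX.2 0)) (fun n q => rg (M n q))
    (fun n q => isSub_rg _) (fun n q => (le_iff_rg _ _).1 ((hM n).1 q))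
    (fun n m q h => (le_iff_rg _ _).1 (hmono h q))
    fun n a ha q z hz => grSub_stable (hM n) ha q z hz
  exact ⟨n₀, fun i hi => funext fun q => eq_of_rg (hn₀ i hi q)⟩

theorem isSub_IM {I : Ideal A} (hI : HQ C I) (Y : C) : IsSub (IM I Y : Set (El Y)) := by
  obtain ⟨Q, p, hp⟩ := hI Y
  obtain ⟨hQ, -, hk⟩ := (isQuot_iff p).1 hp
  refine ⟨kernelSubobject p, ?_⟩
  rw [rg_kernel]
  ext x
  exact ⟨hk x, fun hx => killed_IM hQ (IM_map p hx)⟩

/-- Artin–Rees: strict subsystems of adic noetherian systems. -/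
theorem cond_of_strict_sub [IsNoetherianRing A] (hX : ARSys.IsAdicNoeth J X) {S : ARSys.PS C}
    {ι : S ⟶ X} (hι : ∀ n, Function.Injective (ap (ι.app (op n)))) (hS : ARSys.IsStrict S) :
    ∃ r, Cond J S r := by
  have hq : ∀ k, HQ C (J ^ k) := hq_pow (Or.inl (IsNoetherian.noetherian J))
  have hS' := (strict_iff S).1 hS
  let M : ℕ → ∀ q, Set (El (X.obj (op q))) := fun i q =>
    ap (ι.app (op q)) '' ((IM (J ^ (q - i)) (S.obj (op q)) : Set _) ∩ rg (ARSys.Fsub S q q))
  have hF : ∀ q s, s ∈ rg (ARSys.Fsub S q q) → ap (ι.app (op q)) s ∈ rg (ARSys.Fsub X q q) := by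
    intro q s hs
    match q with
    | 0 => exact mem_rg_Fsub_zero X 0 _
    | k + 1 =>
      rw [mem_rg_Fsub _ k (k + 1) (Nat.le_succ k)] at hs ⊢
      rw [← res_natural, hs, map_zero]
  obtain ⟨n₀, hn₀⟩ := graded_chain hX.1 ((cc_true_iff _).2 (hX.2 0)) M
    (fun n q => ((isSub_IM (hq _) _).inter (isSub_rg _)).image _)
    (fun n q => by rintro _ ⟨s, ⟨-, hs⟩, rfl⟩; exact hF q s hs)
    (fun n m q h => Set.image_mono (Set.inter_subset_inter_left _ (pow_IM_le J (by omega) _)))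
    fun i a ha q z hz => by
      obtain ⟨s, ⟨hs, hsF⟩, hse⟩ := hz
      obtain ⟨s', hs', rfl⟩ := IM_lift (hq _) (ARSys.tr S (Nat.le_succ q)) (hS' _ _ _) hs
      have hzdiff : ap (a • 𝟙 (X.obj (op (q + 1)))) (z - ap (ι.app (op (q + 1))) s') = 0 := by
        refine killed_IM (hX.1.1 (q + 1)) (smul_IM (k := q + 1) (l := 1) (by rwa [pow_one])
          (((adic_iff.1 hX.1).2 q (q + 1) (Nat.le_succ q)).2 _ ?_))
        rw [map_sub, ← res_natural, ← hse]
        exact sub_self _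
      refine ⟨ap (a • 𝟙 (S.obj (op (q + 1)))) s', ⟨?_, ?_⟩, ?_⟩
      · exact pow_IM_le J (by omega) _ (smul_IM (l := 1) (by rwa [pow_one]) hs')
      · rw [mem_rg_Fsub _ q (q + 1) (Nat.le_succ q)]
        refine hι q ?_
        rw [map_zero, res, ap_smul_natural, ap_smul_natural]
        have hm := hF q _ hsF
        rw [rg_Fsub_eq hX.1] at hm
        exact killed_IM (hX.1.1 q) (smul_IM (l := 1) (by rwa [pow_one]) hm)
      · rw [ap_smul_natural]
        rw [map_sub, sub_eq_zero] at hzdiff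
        exact hzdiff.symm
  refine ⟨n₀, cond_of_fker hq hS fun k a ha => ?_⟩
  have hmem : ap (ι.app (op (k + 1))) a ∈ M (max n₀ (k + 1)) (k + 1) :=
    ⟨a, ⟨by
      rw [show k + 1 - max n₀ (k + 1) = 0 by omega, pow_zero, Ideal.one_eq_top]
      simpa using smul_mem_IM (X := S.obj (op (k + 1))) (Submodule.mem_top (x := (1 : A))) a,
      (mem_rg_Fsub S k (k + 1) (Nat.le_succ k) a).2 ha⟩, rfl⟩
  rw [hn₀ _ (le_max_left _ _)] at hmem
  obtain ⟨s, ⟨hs, -⟩, hse⟩ := hmem
  rwa [hι _ hse] at hs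

theorem strict_chain [IsNoetherianRing A] (hX : ARSys.IsAdicNoeth J X)
    (Z : ℕ →o Subobject X)
    (hZ : ∀ k : ℕ, ARSys.IsStrict ((Subobject.underlying.obj (Z k) : ARSys.PS C))) :
    ∃ k₀ : ℕ, ∀ k : ℕ, k₀ ≤ k → Z k = Z k₀ := by
  let R : ℕ → ∀ q, Set (El (X.obj (op q))) := fun k q => Set.range (ap ((Z k).arrow.app (op q)))
  have hR : ∀ k q, IsSub (R k q) := fun k q => isSub_range _
  have hRm : ∀ k l q, k ≤ l → R k q ⊆ R l q := by
    rintro k l q h _ ⟨a, rfl⟩
    exact ⟨ap ((Subobject.ofLE _ _ (Z.monotone h)).app (op q)) a, by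
      rw [← ap_comp, ← NatTrans.comp_app, Subobject.ofLE_arrow]⟩
  have hRres : ∀ k q (y : El (X.obj (op q))), y ∈ R k q → ∀ m (h : q ≤ m),
      ∃ w ∈ R k m, res X h w = y := by
    rintro k q _ ⟨a, rfl⟩ m h
    obtain ⟨b, rfl⟩ := (strict_iff _).1 (hZ k) q m h a
    exact ⟨_, ⟨b, rfl⟩, (res_natural _ _ _).symm⟩
  have hRs : ∀ k (a : A) q (y : El (X.obj (op q))), y ∈ R k q →
      ap (a • 𝟙 (X.obj (op q))) y ∈ R k q := by
    rintro k a q _ ⟨b, rfl⟩
    exact ⟨ap (a • 𝟙 _) b, ap_smul_natural _ a b⟩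
  have hR' : ∀ k q (y : El (X.obj (op (q + 1)))), y ∈ R k (q + 1) →
      res X (Nat.le_succ q) y ∈ R k q := by
    rintro k q _ ⟨b, rfl⟩
    exact ⟨res _ (Nat.le_succ q) b, res_natural _ _ _⟩
  obtain ⟨n₀, hn₀⟩ := graded_chain hX.1 ((cc_true_iff _).2 (hX.2 0))
    (fun k q => R k q ∩ rg (ARSys.Fsub X q q)) (fun k q => (hR k q).inter (isSub_rg _))
    (fun k q => Set.inter_subset_right)
    (fun k l q h => Set.inter_subset_inter_left _ (hRm k l q h))
    fun k a ha q z hz => by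
      obtain ⟨w, hw, hwe⟩ := hRres k q _ hz.1 (q + 1) (Nat.le_succ q)
      have hzw : ap (a • 𝟙 (X.obj (op (q + 1)))) (z - w) = 0 :=
        killed_IM (hX.1.1 (q + 1)) (smul_IM (k := q + 1) (l := 1) (by rwa [pow_one])
          (((adic_iff.1 hX.1).2 q (q + 1) (Nat.le_succ q)).2 _ (by rw [map_sub, hwe, sub_self])))
      rw [map_sub, sub_eq_zero] at hzw
      refine ⟨hzw ▸ hRs k a _ w hw, ?_⟩
      rw [mem_rg_Fsub _ q (q + 1) (Nat.le_succ q), res, ap_smul_natural]
      have hm := hz.2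
      rw [rg_Fsub_eq hX.1] at hm
      exact killed_IM (hX.1.1 q) (smul_IM (l := 1) (by rwa [pow_one]) hm)
  refine ⟨n₀, fun k hk => le_antisymm ?_ (Z.monotone hk)⟩
  have heq : ∀ q, R k q ⊆ R n₀ q := by
    intro q
    induction q with
    | zero =>
      intro y hy
      have hy' : y ∈ R k 0 ∩ rg (ARSys.Fsub X 0 0) := ⟨hy, mem_rg_Fsub_zero X 0 y⟩
      rw [hn₀ k hk 0] at hy'
      exact hy'.1
    | succ q hq =>
      intro y hy
      obtain ⟨w, hw, hwe⟩ := hRres n₀ q _ (hq (hR' k q y hy)) (q + 1) (Nat.le_succ q)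
      have hd : y - w ∈ R k (q + 1) ∩ rg (ARSys.Fsub X (q + 1) (q + 1)) :=
        ⟨(hR k _).sub_mem hy (hRm _ _ _ hk hw),
          (mem_rg_Fsub X q (q + 1) (Nat.le_succ q) _).2 (by rw [map_sub, hwe, sub_self])⟩
      rw [hn₀ k hk] at hd
      have := (hR n₀ _).add_mem hd.1 hw
      rwa [sub_add_cancel] at this
  have hz : (Z k).arrow ≫ cokernel.π (Z n₀).arrow = 0 := by
    ext ⟨q⟩
    refine eq_zero fun a => ?_
    obtain ⟨b, hb⟩ := heq q ⟨a, rfl⟩
    rw [NatTrans.comp_app, ap_comp, ← hb, ← ap_comp, ← NatTrans.comp_app, cokernel.condition]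
    exact ap_zero b
  exact Subobject.le_of_comm (Abelian.monoLift (Z n₀).arrow (Z k).arrow hz)
    (Abelian.monoLift_comp _ _ _)

end Adic

end ARLib
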