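import Mathlib
import Groth.Agent.ARLib.Graded

/-!
# Stability properties of systems adic up to translation
-/

set_option autoImplicit false
set_option linter.style.haveILetI false

universe w v u

open CategoryTheory CategoryTheory.Limits Opposite Pointwise

namespace ARLib

variable {C : Type u} [Category.{v} C] [Abelian C] {A : Type w} [CommRing A] [Linear A C]
  {J : Ideal A} {X Y : ARSys.PS C}

/-- Components of adic systems. -/
theorem cc_components [IsNoetherianRing A] (up : Bool) (hX : ARSys.IsAdic J X)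
    (h0 : CC up (Set.univ : Set (El (X.obj (op 0))))) (n : ℕ) :
    CC up (Set.univ : Set (El (X.obj (op n)))) := by
  obtain ⟨d, g, hg⟩ := Submodule.fg_iff_exists_fin_generating_family.1 (IsNoetherian.noetherian J)
  have hgJ : ∀ i, g i ∈ J := fun i => hg ▸ Submodule.subset_span ⟨i, rfl⟩
  choose ψ hψ using fun i q => exists_psi hX (hgJ i) q
  have hsurj := (strict_iff X).1 (isStrict_of_isAdic hX)
  induction n with
  | zero => exact h0
  | succ n ih =>
    refine CC.of_ker (ARSys.tr X (Nat.le_succ n)) (isSub_univ _) ?_ (ih.subset (Set.subset_univ _))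
    have key : ∀ s : Finset (Fin d), ∃ t : Set (El (X.obj (op (n + 1)))), IsSub t ∧ CC up t ∧
        ∀ i ∈ s, ∀ x, ap (ψ i n) x ∈ t := by
      intro s
      induction s using Finset.induction_on with
      | empty => exact ⟨{0}, isSub_zero _, CC.zero up _, fun i hi => absurd hi (by simp)⟩
      | insert i s _ hs =>
        obtain ⟨t, ht, hcc, hmem⟩ := hs
        have hi : IsSub (ap (ψ i n) '' Set.univ) := (isSub_univ _).image _
        refine ⟨t + ap (ψ i n) '' Set.univ, ht.add hi,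
          CC.add ht hi hcc (CC.image _ (isSub_univ _) ih), fun j hj x => ?_⟩
        rcases Finset.mem_insert.1 hj with rfl | hj
        · exact ⟨0, ht.zero_mem, _, ⟨x, trivial, rfl⟩, zero_add _⟩
        · exact ⟨_, hmem j hj x, 0, hi.zero_mem, add_zero _⟩
    obtain ⟨t, ⟨T, rfl⟩, hcc, hmem⟩ := key Finset.univ
    refine hcc.subset fun z ⟨_, hz⟩ => ?_
    have hzI := ((adic_iff.1 hX).2 n (n + 1) (Nat.le_succ n)).2 z hz
    have hφ : ARSys.HomKilledBy (J ^ (n + 1)) (cokernel.π T.arrow) := fun a ha => by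
      have haJ : a ∈ J := Ideal.pow_le_self (Nat.succ_ne_zero n) ha
      rw [← hg] at haJ
      refine Submodule.span_induction ?_ (zero_smul _ _)
        (fun x y _ _ hx hy => by rw [add_smul, hx, hy, add_zero])
        (fun r x _ hx => by rw [smul_eq_mul, mul_smul, hx, smul_zero]) haJ
      rintro _ ⟨i, rfl⟩
      refine eq_zero fun w => ?_
      obtain ⟨b, hb⟩ : ap (g i • 𝟙 (X.obj (op (n + 1)))) w ∈ rg T := by
        rw [← hψ]; exact hmem i (Finset.mem_univ i) _
      rw [← Category.id_comp (cokernel.π T.arrow), ← Linear.smul_comp, ap_comp, ← hb,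
        cokernel_π_ap]
    obtain ⟨b, hb⟩ := exists_of_cokernel_π T.arrow z (hzI _ _ hφ)
    exact ⟨b, hb⟩

theorem exists_lift_mono {X Y Z : ARSys.PS C} (j : Y ⟶ Z)
    (hj : ∀ n, Function.Injective (ap (j.app (op n)))) (f : X ⟶ Z)
    (hf : ∀ n x, ∃ y, ap (j.app (op n)) y = ap (f.app (op n)) x) :
    ∃ g : X ⟶ Y, ∀ n x, ap (j.app (op n)) (ap (g.app (op n)) x) = ap (f.app (op n)) x := by
  haveI : Mono j := by
    haveI : ∀ i, Mono (j.app i) := fun i => (mono_iff _).2 (hj i.unop)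
    exact NatTrans.mono_of_mono_app j
  have hz : f ≫ cokernel.π j = 0 := by
    ext ⟨n⟩
    refine eq_zero fun x => ?_
    obtain ⟨y, hy⟩ := hf n x
    rw [NatTrans.comp_app, ap_comp, ← hy, ← ap_comp, ← NatTrans.comp_app, cokernel.condition]
    exact ap_zero y
  refine ⟨Abelian.monoLift j f hz, fun n x => ?_⟩
  rw [← ap_comp, ← NatTrans.comp_app, Abelian.monoLift_comp]

theorem exists_preimage {Y Z I : ARSys.PS C} (u : Y ⟶ Z) (j : I ⟶ Z) :
    ∃ (P : ARSys.PS C) (k : P ⟶ Y), (∀ n, Function.Injective (ap (k.app (op n)))) ∧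
      ∀ n y, (∃ p, ap (k.app (op n)) p = y) ↔
        ∃ i, ap (j.app (op n)) i = ap (u.app (op n)) y := by
  refine ⟨kernel (u ≫ cokernel.π j), kernel.ι _, fun n => ?_, fun n y => ⟨?_, ?_⟩⟩
  · haveI := app_mono (kernel.ι (u ≫ cokernel.π j)) n
    exact inj _
  · rintro ⟨p, rfl⟩
    refine app_exact (ShortComplex.mk _ _ (cokernel.condition j))
      (ShortComplex.exact_of_g_is_cokernel _ (cokernelIsCokernel j)) n _ ?_
    change ap ((cokernel.π j).app (op n)) _ = 0
    rw [← ap_comp, ← ap_comp, ← NatTrans.comp_app, ← NatTrans.comp_app, kernel.condition]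
    exact ap_zero p
  · rintro ⟨i, hi⟩
    refine app_exact (ShortComplex.mk _ _ (kernel.condition (u ≫ cokernel.π j)))
      (ShortComplex.exact_of_f_is_kernel _ (kernelIsKernel _)) n y ?_
    change ap ((u ≫ cokernel.π j).app (op n)) y = 0
    rw [NatTrans.comp_app, ap_comp, ← hi, ← ap_comp, ← NatTrans.comp_app, cokernel.condition]
    exact ap_zero i

theorem cond_trivial {r n : ℕ} (h : n + 1 ≤ r) {Z : C} (a : El Z) :
    a ∈ IM (J ^ (n + 1 - r)) Z := by
  rw [show n + 1 - r = 0 by omega, pow_zero, Ideal.one_eq_top]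
  simpa using smul_mem_IM (X := Z) (Submodule.mem_top (x := (1 : A))) a

/-- Subsystems. -/
theorem arAdic_of_mlar_sub [IsNoetherianRing A] {S Z : ARSys.PS C} (j : S ⟶ Z)
    (hj : ∀ n, Function.Injective (ap (j.app (op n)))) (hZ : ARSys.IsARAdicNoeth J Z)
    (hS : ARSys.IsMLAR S) : ARSys.IsARAdicNoeth J S := by
  have hq : ∀ k, HQ C (J ^ k) := hq_pow (Or.inl (IsNoetherian.noetherian J))
  have kS := termKilled_of_inj hj hZ.1.1
  refine ⟨?_, fun n => (cc_true_iff _).1 (cc_of_inj _ (hj n) ((cc_true_iff _).2 (hZ.2 n)))⟩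
  obtain ⟨rS, hrS⟩ := (mlar_iff S).1 hS
  obtain ⟨I, ιI, hιI, hI, hbI, -⟩ := exists_univ_image hrS
  obtain ⟨rZ, hrZ⟩ := (mlar_iff Z).1 (mlar_of_arAdic hZ.1)
  obtain ⟨IZ, ιZ, hιZ, hIZ, hbZ, -⟩ := exists_univ_image hrZ
  obtain ⟨s, hc⟩ := (arAdic_iff_sub hq hιZ hIZ hbZ hZ.1.1).1 hZ.1
  obtain ⟨Y, q, hqq, hY⟩ := exists_adic_of_cond hq hIZ hc
  obtain ⟨u, hus, hu⟩ := arAdic_of_quot hq hIZ (termKilled_of_inj hιZ hZ.1.1) hqq hY
  have hbu : ARB u s := arIso_of_quot_cond hIZ hqq hc hu hus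
  have hYN : ARSys.IsAdicNoeth J Y := ⟨hY, fun n => (cc_true_iff _).1
    (cc_of_surj (q.app (op n)) ((isQuot_iff _).1 (hqq n)).2.1
      (cc_of_inj (ιZ.app (op (n + s))) (hιZ _) ((cc_true_iff _).2 (hZ.2 _))))⟩
  obtain ⟨jI, hjI⟩ := exists_lift_mono ιZ hιZ (ιI ≫ j) fun n i => by
    obtain ⟨i', rfl⟩ := (strict_iff I).1 hI n (n + rZ) (Nat.le_add_right n rZ) i
    rw [res_natural]
    exact hbZ.coker n (n + rZ) _ le_rfl _
  have hjI' : ∀ n, Function.Injective (ap (jI.app (op n))) := fun n a b h => by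
    have := congrArg (ap (ιZ.app (op n))) h
    rw [hjI, hjI, NatTrans.comp_app, ap_comp, ap_comp] at this
    exact hιI n (hj n this)
  obtain ⟨P, k, hk, hkP⟩ := exists_preimage u jI
  obtain ⟨e, he⟩ := exists_lift_mono jI hjI' (k ≫ u) fun n p => by
    obtain ⟨i, hi⟩ := (hkP n _).1 ⟨p, rfl⟩
    exact ⟨i, by rw [hi, NatTrans.comp_app, ap_comp]⟩
  have hes : ∀ n, Function.Surjective (ap (e.app (op n))) := fun n i => by
    obtain ⟨y, hy⟩ := hus n (ap (jI.app (op n)) i)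
    obtain ⟨p, hp⟩ := (hkP n y).2 ⟨i, hy.symm⟩
    exact ⟨p, hjI' n (by rw [he, NatTrans.comp_app, ap_comp, hp, hy])⟩
  have heker : ∀ (n m : ℕ) (h : n ≤ m), n + s ≤ m → ∀ p, ap (e.app (op m)) p = 0 →
      res P h p = 0 := fun n m h hm p hp => by
    have h0 := he m p
    rw [hp, map_zero, NatTrans.comp_app, ap_comp] at h0
    refine hk n ?_
    rw [res_natural, hbu.ker n m h hm _ h0.symm, map_zero]
  have hP : MLB P s := fun n m M hnm hnM hm p => by
    obtain ⟨i', hi'⟩ := (strict_iff I).1 hI (n + s) (max M (n + s)) (le_max_right _ _)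
      (ap (e.app (op (n + s))) (res P hm p))
    obtain ⟨p', hp'⟩ := hes (max M (n + s)) i'
    refine ⟨res P (le_max_left M (n + s)) p', ?_⟩
    have h0 := heker n (n + s) (Nat.le_add_right n s) le_rfl
      (res P (le_max_right M (n + s)) p' - res P hm p) (by
        rw [map_sub, res_natural, hp', hi', sub_self])
    rw [map_sub, res_res, res_res, sub_eq_zero] at h0
    rw [res_res]
    exact h0
  obtain ⟨P', ιP, hιP, hP', hbP, -⟩ := exists_univ_image hP
  obtain ⟨t, ht⟩ := cond_of_strict_sub hYN (ι := ιP ≫ k)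
    (fun n a b h => hιP n (hk n (by simpa using h))) hP'
  have hcI : Cond J I (t + s) := cond_of_surj_arb (u := ιP ≫ e) ht (fun n i => by
      obtain ⟨i', rfl⟩ := (strict_iff I).1 hI n (n + s) (Nat.le_add_right n s) i
      obtain ⟨p, rfl⟩ := hes _ i'
      obtain ⟨p', hp'⟩ := hbP.coker n (n + s) (Nat.le_add_right n s) le_rfl p
      exact ⟨p', by rw [NatTrans.comp_app, ap_comp, hp', res_natural]⟩)
    ⟨fun n m h hm a ha => by
      rw [NatTrans.comp_app, ap_comp] at ha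
      refine hιP n ?_
      rw [res_natural, heker n m h hm _ ha, map_zero],
     fun n m h hm b => by
      obtain ⟨p, hp⟩ := hes m b
      obtain ⟨p', hp'⟩ := hbP.coker n m h hm p
      exact ⟨p', by rw [NatTrans.comp_app, ap_comp, hp', res_natural, hp]⟩⟩
  exact (arAdic_iff_sub hq hιI hI hbI kS).2 ⟨_, hcI⟩

variable {S : ShortComplex (ARSys.PS C)}

theorem arAdicNoeth_kernel [IsNoetherianRing A] (h : SES S) (h₂ : ARSys.IsARAdicNoeth J S.X₂)
    (h₃ : ARSys.IsARAdic J S.X₃) : ARSys.IsARAdicNoeth J S.X₁ :=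
  arAdic_of_mlar_sub S.f h.inj h₂
    (mlar_kernel (hq_pow (Or.inl (IsNoetherian.noetherian J))) h h₂.1.1 (mlar_of_arAdic h₂.1) h₃)

theorem arAdicNoeth_kernel_cokernel [IsNoetherianRing A] {X Y : ARSys.PS C} (u : X ⟶ Y)
    (hX : ARSys.IsARAdicNoeth J X) (hY : ARSys.IsARAdicNoeth J Y) :
    ARSys.IsARAdicNoeth J (kernel u) ∧ ARSys.IsARAdicNoeth J (cokernel u) := by
  have hI₁ : (ShortComplex.mk (kernel.ι u) (Abelian.factorThruImage u)
      (zero_of_comp_mono (Abelian.image.ι u) (by simp))).ShortExact := by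
    refine ShortComplex.ShortExact.mk' ?_ inferInstance inferInstance
    refine ShortComplex.exact_of_f_is_kernel _ (KernelFork.IsLimit.ofι' _ _ fun {W} g hg =>
      ⟨kernel.lift u g ?_, kernel.lift_ι _ _ _⟩)
    have := hg =≫ Abelian.image.ι u
    simpa using this
  have hI₂ : (ShortComplex.mk (Abelian.image.ι u) (cokernel.π u)
      (kernel.condition _)).ShortExact :=
    ShortComplex.ShortExact.mk' (ShortComplex.exact_of_f_is_kernel _ (kernelIsKernel (cokernel.π u)))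
      inferInstance inferInstance
  have h₁ := SES.of_shortExact hI₁
  have h₂ := SES.of_shortExact hI₂
  obtain ⟨r, hr⟩ := (mlar_iff _).1 (mlar_of_arAdic hX.1)
  have hImlar : ARSys.IsMLAR (Abelian.image u) := (mlar_iff _).2 ⟨r, mlb_of_surj h₁.surj hr⟩
  have hI := arAdic_of_mlar_sub (Abelian.image.ι u) h₂.inj hY hImlar
  refine ⟨arAdicNoeth_kernel h₁ hX hI.1, ?_, fun n => ?_⟩
  · exact arAdic_quotient (hq_pow (Or.inl (IsNoetherian.noetherian J))) h₂
      (termKilled_of_surj h₂.surj hY.1.1) hImlar hY.1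
  · exact (cc_true_iff _).1 (cc_of_surj _ (h₂.surj n) ((cc_true_iff _).2 (hY.2 n)))

/-- Extensions. -/
theorem arAdic_ext (hq : ∀ k, HQ C (J ^ k)) (h : SES S) (k₂ : ARSys.TermKilled J S.X₂)
    (h₁ : ARSys.IsARAdic J S.X₁) (h₃ : ARSys.IsARAdic J S.X₃) : ARSys.IsARAdic J S.X₂ := by
  obtain ⟨r₁, hr₁⟩ := (mlar_iff _).1 (mlar_of_arAdic h₁)
  obtain ⟨r₃, hr₃⟩ := (mlar_iff _).1 (mlar_of_arAdic h₃)
  obtain ⟨I₁, ι₁, hι₁, hI₁, hb₁, -⟩ := exists_univ_image hr₁
  obtain ⟨I₂, ι₂, hι₂, hI₂, hb₂, -⟩ := exists_univ_image (mlb_ext h hr₁ hr₃)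
  obtain ⟨I₃, ι₃, hι₃, hI₃, hb₃, -⟩ := exists_univ_image hr₃
  obtain ⟨s₁, hs₁⟩ := (arAdic_iff_sub hq hι₁ hI₁ hb₁ h₁.1).1 h₁
  obtain ⟨s₃, hs₃⟩ := (arAdic_iff_sub hq hι₃ hI₃ hb₃ h₃.1).1 h₃
  obtain ⟨p, hp⟩ := exists_lift_mono ι₃ hι₃ (ι₂ ≫ S.g) fun n i => by
    obtain ⟨i', rfl⟩ := (strict_iff I₂).1 hI₂ n (n + r₃) (Nat.le_add_right n r₃) i
    rw [res_natural]
    exact hb₃.coker n (n + r₃) _ le_rfl _
  obtain ⟨f', hf'⟩ := exists_lift_mono ι₂ hι₂ (ι₁ ≫ S.f) fun n i => by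
    obtain ⟨i', rfl⟩ := (strict_iff I₁).1 hI₁ n (n + (r₁ + r₃)) (Nat.le_add_right n _) i
    rw [res_natural]
    exact hb₂.coker n (n + (r₁ + r₃)) _ le_rfl _
  simp only [NatTrans.comp_app, ap_comp] at hp hf'
  have hps : ∀ n, Function.Surjective (ap (p.app (op n))) := fun n c => by
    obtain ⟨c', rfl⟩ := (strict_iff I₃).1 hI₃ n (n + (r₁ + r₃)) (Nat.le_add_right n _) c
    obtain ⟨b, hb⟩ := h.surj _ (ap (ι₃.app (op (n + (r₁ + r₃)))) c')
    obtain ⟨i, hi⟩ := hb₂.coker n (n + (r₁ + r₃)) (Nat.le_add_right n _) le_rfl b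
    exact ⟨i, hι₃ n (by rw [hp, hi, res_natural, hb, res_natural])⟩
  refine (arAdic_iff_sub hq hι₂ hI₂ hb₂ k₂).2 ⟨s₁ + s₃, fun n m hnm y hy => ?_⟩
  rcases le_or_gt (n + 1) (s₁ + s₃) with hns | hns
  · exact cond_trivial hns y
  obtain ⟨d, hd, hde⟩ := IM_lift (hq _) _ (hps m)
    (hs₃ n m hnm (ap (p.app (op m)) y) (by rw [← res_natural, hy, map_zero]))
  have hyd : ap (S.g.app (op m)) (ap (ι₂.app (op m)) (y - d)) = 0 := by
    rw [← hp, map_sub, hde, sub_self, map_zero]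
  let M := m + r₁
  have hmM : m ≤ M := Nat.le_add_right m r₁
  obtain ⟨b, hb⟩ := (strict_iff I₂).1 hI₂ m M hmM (y - d)
  obtain ⟨d', hd', hde'⟩ := IM_lift (hq _) _ (hps M)
    (hs₃ m M hmM (ap (p.app (op M)) b) (hι₃ m (by
      rw [map_zero, res_natural, hp, ← res_natural, ← res_natural, hb, hyd])))
  obtain ⟨a', ha'⟩ := h.exact M (ap (ι₂.app (op M)) (b - d')) (by
    rw [← hp, map_sub, hde', sub_self, map_zero])
  obtain ⟨a₁, ha₁⟩ := hb₁.coker m M hmM le_rfl a'
  have hsplit : ap (f'.app (op m)) a₁ = y - d - res I₂ hmM d' := hι₂ m (by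
    rw [hf', ha₁, res_natural, ha', ← res_natural, map_sub (res I₂ hmM), hb])
  have hk₂ : ARSys.TermKilled J I₂ := termKilled_of_inj hι₂ k₂
  rcases le_or_gt s₃ n with hs | hs
  · have ha0 : res I₁ (show n - s₃ ≤ m by omega) a₁ = 0 := by
      refine hι₁ _ (h.inj _ ?_)
      rw [map_zero, map_zero, ← hf', res_natural, hsplit]
      simp only [map_sub]
      rw [← res_res I₂ (Nat.sub_le n s₃) hnm y, hy, map_zero, res_killed hk₂ _ (by omega) hd,
        res_killed hk₂ _ (by omega) (res_IM _ hmM hd'), map_zero, sub_zero, sub_zero]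
    have hmem := pow_IM_le J (show n + 1 - (s₁ + s₃) ≤ n - s₃ + 1 - s₁ by omega) _
      (IM_map (f'.app (op m)) (hs₁ _ m _ a₁ ha0))
    rw [hsplit] at hmem
    have := add_mem (add_mem hmem (pow_IM_le J (show n + 1 - (s₁ + s₃) ≤ m + 1 - s₃ by omega) _
      (res_IM _ hmM hd'))) (pow_IM_le J (show n + 1 - (s₁ + s₃) ≤ n + 1 - s₃ by omega) _ hd)
    rwa [sub_add_cancel, sub_add_cancel] at this
  · exact cond_trivial (by omega) y

/-- Five-term sequences. -/
theorem arAdic_five (hq : ∀ k, HQ C (J ^ k)) {T X Y Z : ARSys.PS C} (a : T ⟶ X) (b : X ⟶ Y)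
    (c : Y ⟶ Z) (hbz : ∀ n t, ap (b.app (op n)) (ap (a.app (op n)) t) = 0)
    (hab : ∀ n x, ap (b.app (op n)) x = 0 → ∃ t, ap (a.app (op n)) t = x)
    (hcz : ∀ n x, ap (c.app (op n)) (ap (b.app (op n)) x) = 0)
    (hbc : ∀ n y, ap (c.app (op n)) y = 0 → ∃ x, ap (b.app (op n)) x = y)
    (hc : ∀ n, Function.Surjective (ap (c.app (op n))))
    (hT : ARSys.IsARNull T) (hX : ARSys.IsAdic J X) (hY : ARSys.TermKilled J Y)
    (hZ : ARSys.IsAdic J Z) : ARSys.IsARAdic J Y := by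
  have := hbz
  have hYs : ARSys.IsStrict Y := (strict_iff Y).2 fun n m h y => by
    obtain ⟨z, hz⟩ := ((adic_iff.1 hZ).2 n m h).1 (ap (c.app (op n)) y)
    obtain ⟨y', rfl⟩ := hc m z
    obtain ⟨x, hx⟩ := hbc n (y - res Y h y') (by rw [map_sub, res_natural, hz, sub_self])
    obtain ⟨x', rfl⟩ := ((adic_iff.1 hX).2 n m h).1 x
    exact ⟨ap (b.app (op m)) x' + y', by rw [map_add, ← res_natural, hx, sub_add_cancel]⟩
  obtain ⟨r, hr⟩ := (arNull_iff T).1 hT
  refine (arAdic_strict_iff hq hYs hY).2 ⟨r, fun n m h y hy => ?_⟩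
  rcases le_or_gt (n + 1) r with hnr | hnr
  · exact cond_trivial hnr y
  obtain ⟨d, hd, hde⟩ := IM_lift (hq _) _ (hc m)
    (((adic_iff.1 hZ).2 n m h).2 (ap (c.app (op m)) y) (by rw [← res_natural, hy, map_zero]))
  obtain ⟨x, hx⟩ := hbc m (y - d) (by rw [map_sub, hde, sub_self])
  obtain ⟨t, ht⟩ := hab n (res X h x) (by
    rw [res_natural, hx, map_sub, hy, res_killed hY h le_rfl hd, sub_zero])
  have hx0 : res X (show n - r ≤ m by omega) x = 0 := by
    rw [← res_res X (Nat.sub_le n r) h, ← ht, ← res_natural,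
      hr (n - r) n (Nat.sub_le n r) (by omega), map_zero]
  have hmem := pow_IM_le J (show n + 1 - r ≤ n - r + 1 by omega) _
    (IM_map (b.app (op m)) (((adic_iff.1 hX).2 _ _ _).2 x hx0))
  rw [hx] at hmem
  have h' := add_mem hmem (pow_IM_le J (show n + 1 - r ≤ n + 1 by omega) _ hd)
  rwa [sub_add_cancel] at h'

/-- Finite type strict graded object. -/
theorem arAdic_of_grs (hq : ∀ k, HQ C (J ^ k)) (hX : ARSys.IsStrict X)
    (hA : ARSys.IsAdapted J X) (hft : ARSys.GrsFiniteType J X) : ARSys.IsARAdic J X := by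
  have hkey : ∀ (p q : ℕ) (a : A), a ∈ J ^ p → ∀ w : El (X.obj (op (p + q))),
      res X (Nat.le_add_left q p) w = 0 → ap (a • 𝟙 (X.obj (op (p + q)))) w = 0 := by
    intro p q a ha w hw
    have h := hA (p + q) p (by omega) a ha
    have hw' : w ∈ rg (ARSys.Fsub X (p + q + 1 - p) (p + q)) := by
      rw [show p + q + 1 - p = q + 1 by omega, mem_rg_Fsub X q (p + q) (Nat.le_add_left q p)]
      exact hw
    obtain ⟨k, rfl⟩ := hw'
    rw [← ap_comp, h, ap_zero]
  have kX : ARSys.TermKilled J X := fun n a ha => by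
    have h := hA n (n + 1) le_rfl a ha
    refine eq_zero fun z => ?_
    have hz : z ∈ rg (ARSys.Fsub X (n + 1 - (n + 1)) n) := by
      rw [Nat.sub_self]; exact mem_rg_Fsub_zero X n z
    obtain ⟨k, rfl⟩ := hz
    rw [← ap_comp, h, ap_zero]
  have hsub : ∀ i q, IsSub (rg (ARSys.Fsub X q q) ∩
      (IM (J ^ (q - i)) (X.obj (op q)) : Set _)) := fun i q =>
    (isSub_rg _).inter (isSub_IM (hq _) _)
  choose M hM using hsub
  have hgr : ∀ i, ARSys.IsGrSub J X (M i) := fun i => ⟨fun q => (le_iff_rg _ _).2 (by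
      rw [hM]; exact Set.inter_subset_left), fun p q a ha => by
    rw [le_iff_rg, rg_image, hM]
    rintro _ ⟨z, rfl⟩
    rw [ap_comp]
    let P := (Subobject.pullback (ARSys.tr X (Nat.le_add_left q p))).obj (M i q)
    obtain ⟨m, hm⟩ : res X (Nat.le_add_left q p) (ap P.arrow z) ∈ rg (M i q) :=
      ⟨ap (Subobject.pullbackπ (ARSys.tr X (Nat.le_add_left q p)) (M i q)) z, by
        rw [res, ← ap_comp, ← ap_comp]
        exact congrArg (fun f => ap f z) (Subobject.isPullback _ _).w⟩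
    have hmem : ap (M i q).arrow m ∈
        rg (ARSys.Fsub X q q) ∩ (IM (J ^ (q - i)) (X.obj (op q)) : Set _) := hM i q ▸ ⟨m, rfl⟩
    rw [hm] at hmem
    obtain ⟨z', hz', hze⟩ := IM_lift (hq _) (ARSys.tr X (Nat.le_add_left q p))
      ((strict_iff X).1 hX _ _ _) hmem.2
    have hd := hkey p q a ha (ap P.arrow z - z') (by rw [map_sub]; exact sub_eq_zero.2 hze.symm)
    rw [map_sub, sub_eq_zero] at hd
    refine ⟨?_, ?_⟩
    · rcases Nat.eq_zero_or_pos (p + q) with hpq | hpq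
      · obtain ⟨rfl, rfl⟩ : p = 0 ∧ q = 0 := by omega
        exact mem_rg_Fsub_zero X 0 _
      · obtain ⟨k, hk⟩ : ∃ k, p + q = k + 1 := ⟨p + q - 1, by omega⟩
        have hkn : k ≤ p + q := by omega
        have : ARSys.Fsub X (p + q) (p + q) = ARSys.Fsub X (k + 1) (p + q) :=
          congrArg (fun t => ARSys.Fsub X t (p + q)) hk
        rw [this, mem_rg_Fsub X k (p + q) hkn, res_smul]
        rcases Nat.eq_zero_or_pos q with rfl | hq0
        · exact killed_IM (kX k) (IM_mono (Ideal.pow_le_pow_right (show k + 1 ≤ p by omega)) _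
            (smul_mem_IM ha _))
        · obtain ⟨q', rfl⟩ : ∃ q', q = q' + 1 := ⟨q - 1, by omega⟩
          obtain rfl : k = p + q' := by omega
          refine hkey p q' a ha _ ?_
          rw [res_res, ← res_res X (Nat.le_succ q') (Nat.le_add_left (q' + 1) p)]
          exact (mem_rg_Fsub X q' (q' + 1) (Nat.le_succ q') _).1 hmem.1
    · rw [hd]
      exact pow_IM_le J (by omega) _ (smul_IM ha hz')⟩
  obtain ⟨i, hi⟩ := hft M hgr (fun i j hij q => (le_iff_rg _ _).2
      (by rw [hM, hM]; exact Set.inter_subset_inter_right _ (pow_IM_le J (by omega) _)))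
    (fun q => ⟨fun S ⟨i, hi⟩ => hi ▸ (le_iff_rg _ _).2 (by rw [hM]; exact Set.inter_subset_left),
      fun S hS => le_trans ((le_iff_rg _ _).2 (by
        rw [hM]
        refine fun x hx => ⟨hx, ?_⟩
        rw [Nat.sub_self, pow_zero, Ideal.one_eq_top]
        simpa using smul_mem_IM (X := X.obj (op q)) (Submodule.mem_top (x := (1 : A))) x))
        (hS ⟨q, rfl⟩)⟩)
  refine (arAdic_strict_iff hq hX kX).2 ⟨i, cond_of_fker hq hX fun k a ha => ?_⟩
  have h : a ∈ rg (M i (k + 1)) := by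
    rw [hi, mem_rg_Fsub X k (k + 1) (Nat.le_succ k)]; exact ha
  rw [hM] at h
  exact h.2

theorem adapted_iff (J : Ideal A) (X : ARSys.PS C) :
    ARSys.IsAdapted J X ↔ ∀ (n p q : ℕ), ∀ a ∈ J ^ p,
      imageSubobject ((ARSys.Fsub X q n).arrow ≫ (a • 𝟙 (X.obj (op n)))) ≤
        ARSys.Fsub X (p + q) n := by
  constructor
  · intro hA n p q a ha
    rw [le_iff_rg, rg_image]
    rintro _ ⟨k, rfl⟩
    rw [ap_comp]
    have hx : ap (ARSys.Fsub X q n).arrow k ∈ rg (ARSys.Fsub X q n) := ⟨k, rfl⟩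
    generalize ap (ARSys.Fsub X q n).arrow k = x at hx ⊢
    rcases Nat.eq_zero_or_pos (p + q) with hpq | hpq
    · rw [hpq]; exact mem_rg_Fsub_zero X n _
    obtain ⟨j, hj⟩ : ∃ j, p + q = j + 1 := ⟨p + q - 1, by omega⟩
    rw [hj]
    have main : ∀ n', (h : n' ≤ n) → n' ≤ j → res X h (ap (a • 𝟙 (X.obj (op n))) x) = 0 := by
      intro n' h hn'
      rw [res_smul]
      rcases le_or_gt p (n' + 1) with hp | hp
      · have hmem : res X h x ∈ rg (ARSys.Fsub X (n' + 1 - p) n') := by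
          rcases Nat.eq_zero_or_pos (n' + 1 - p) with h0 | h0
          · rw [h0]; exact mem_rg_Fsub_zero X n' _
          · obtain ⟨l, hl⟩ : ∃ l, n' + 1 - p = l + 1 := ⟨n' - p, by omega⟩
            have hln : l ≤ n' := by omega
            rw [hl, mem_rg_Fsub X l n' hln, res_res]
            rcases Nat.eq_zero_or_pos q with rfl | hq0
            · omega
            obtain ⟨q', rfl⟩ : ∃ q', q = q' + 1 := ⟨q - 1, by omega⟩
            rcases le_or_gt q' n with hqn | hqn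
            · rw [mem_rg_Fsub X q' n hqn] at hx
              rw [← res_res X (show l ≤ q' by omega) hqn x, hx, map_zero]
            · rw [show ARSys.Fsub X (q' + 1) n = ⊥ from dif_neg (by omega), rg_bot] at hx
              rw [Set.mem_singleton_iff.1 hx, map_zero]
        obtain ⟨k', hk'⟩ := hmem
        rw [← hk', ← ap_comp, hA n' p hp a ha, ap_zero]
      · have h := hA n' (n' + 1) le_rfl a (Ideal.pow_le_pow_right (by omega) ha)
        have hmem : res X (by assumption) x ∈ rg (ARSys.Fsub X (n' + 1 - (n' + 1)) n') := by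
          rw [Nat.sub_self]; exact mem_rg_Fsub_zero X n' _
        obtain ⟨k', hk'⟩ := hmem
        rw [← hk', ← ap_comp, h, ap_zero]
    rcases le_or_gt j n with hjn | hjn
    · rw [mem_rg_Fsub X j n hjn]
      exact main j hjn le_rfl
    · rw [show ARSys.Fsub X (j + 1) n = ⊥ from dif_neg (by omega), rg_bot]
      have := main n le_rfl hjn.le
      rwa [res_self] at this
  · intro h n p hp a ha
    refine eq_zero fun k => ?_
    have h1 := (le_iff_rg _ _).1 (h n p (n + 1 - p) a ha)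
    rw [rg_image, show p + (n + 1 - p) = n + 1 by omega] at h1
    have h2 := h1 ⟨k, rfl⟩
    rwa [mem_rg_Fsub X n n le_rfl, res_self] at h2

end ARLib
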