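import Mathlib
import Groth.Agent.ARLib.Closure

/-!
# The abelian category of adic noetherian systems
-/

set_option autoImplicit false
set_option linter.style.haveILetI false

universe w v u

open CategoryTheory CategoryTheory.Limits Opposite

namespace ARLib

variable {C : Type u} [Category.{v} C] [Abelian C] {A : Type w} [CommRing A] [Linear A C]
  {J : Ideal A}

/-- An inverse up to translation. -/
theorem exists_inverse {Y K : ARSys.PS C} (v : Y ⟶ K) {r : ℕ} (hv : ARB v r) :
    ∃ t : (ARSys.shift C (r + r)).obj K ⟶ Y, ∀ n (x : El (K.obj (op (n + (r + r))))),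
      ap (v.app (op n)) (ap (t.app (op n)) x) = res K (Nat.le_add_right n (r + r)) x := by
  have hex : ∀ n, ∃ s : K.obj (op (n + (r + r))) ⟶ Y.obj (op n), ∀ x a,
      ap (v.app (op (n + r))) a = res K (show n + r ≤ n + (r + r) by omega) x →
      ap s x = res Y (Nat.le_add_right n r) a := by
    intro n
    have hz : ARSys.tr K (show n + r ≤ n + (r + r) by omega) ≫ cokernel.π (v.app (op (n + r))) = 0 :=
      eq_zero fun x => by
        obtain ⟨a, ha⟩ := hv.coker (n + r) (n + (r + r)) (by omega) (by omega) x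
        rw [ap_comp]
        change ap _ (res K _ x) = 0
        rw [← ha, cokernel_π_ap]
    let e := Abelian.factorThruImage (v.app (op (n + r)))
    let l : K.obj (op (n + (r + r))) ⟶ Abelian.image (v.app (op (n + r))) := kernel.lift _ _ hz
    obtain ⟨ψ, hψ⟩ := exists_factor e (ARSys.tr Y (Nat.le_add_right n r)) fun a ha => by
      refine hv.ker n (n + r) _ le_rfl a ?_
      rw [← Abelian.image.fac (v.app (op (n + r))), ap_comp, ha, map_zero]
    refine ⟨l ≫ ψ, fun x a ha => ?_⟩
    have : ap l x = ap e a := inj (Abelian.image.ι (v.app (op (n + r)))) (by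
      rw [← ap_comp, ← ap_comp, kernel.lift_ι, Abelian.image.fac]; exact ha.symm)
    rw [ap_comp, this, ← ap_comp, hψ]
    rfl
  choose s hs using hex
  refine ⟨{ app := fun i => s i.unop, naturality := fun i j φ => hom_ext fun x => ?_ },
    fun n x => ?_⟩
  · have hle : j.unop ≤ i.unop := leOfHom φ.unop
    obtain ⟨a, ha⟩ := hv.coker (i.unop + r) (i.unop + (r + r)) (by omega) (by omega) x
    rw [ap_comp, ap_comp]
    refine Eq.trans ?_ (congrArg (ap (Y.map φ)) (hs i.unop x a ha)).symm
    change ap (s j.unop) (res K (Nat.add_le_add_right hle (r + r)) x) = _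
    rw [hs j.unop _ (res Y (Nat.add_le_add_right hle r) a) (by
      rw [res_natural, ha, res_res, res_res])]
    exact (res_res Y _ _ a).trans (res_res Y hle _ a).symm
  · obtain ⟨a, ha⟩ := hv.coker (n + r) (n + (r + r)) (by omega) (by omega) x
    change ap (v.app (op n)) (ap (s n) x) = _
    rw [hs n x a ha, res_natural, ha, res_res]

theorem eq_zero_of_comp {W Y K : ARSys.PS C} (hW : ARSys.IsStrict W) (v : Y ⟶ K) {r : ℕ}
    (hv : ARB v r) (h : W ⟶ Y) (h0 : h ≫ v = 0) : h = 0 := by
  ext ⟨n⟩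
  refine eq_zero fun w => ?_
  obtain ⟨w', rfl⟩ := (strict_iff W).1 hW n (n + r) (Nat.le_add_right n r) w
  rw [res_natural]
  refine hv.ker n (n + r) _ le_rfl _ ?_
  rw [← ap_comp, ← NatTrans.comp_app, h0]
  exact ap_zero w'

theorem exists_lift_adic {W Y K : ARSys.PS C} (hW : ARSys.IsAdic J W) (hY : ARSys.TermKilled J Y)
    (v : Y ⟶ K) {r : ℕ} (hv : ARB v r) (g : W ⟶ K) : ∃ h : W ⟶ Y, h ≫ v = g := by
  obtain ⟨t, ht⟩ := exists_inverse v hv
  obtain ⟨h, hh, -⟩ := exists_hom_of_shift hW hY (r + r) ((ARSys.shift C (r + r)).map g ≫ t)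
  refine ⟨h, NatTrans.ext (funext fun ⟨n⟩ => hom_ext fun w => ?_)⟩
  obtain ⟨w', rfl⟩ := (strict_iff W).1 (isStrict_of_isAdic hW) n (n + (r + r)) (Nat.le_add_right n _) w
  have e : ap (h.app (op n)) (res W (Nat.le_add_right n (r + r)) w') =
      ap (t.app (op n)) (ap (g.app (op (n + (r + r)))) w') :=
    ((congrArg (fun k => ap k w') (hh n)).trans (ap_comp _ _ w')).symm.trans (ap_comp _ _ w')
  rw [NatTrans.comp_app, ap_comp, e, ht, res_natural]

theorem adicNoeth_of_arIso {Y K : ARSys.PS C} (hY : ARSys.IsAdic J Y) (v : Y ⟶ K) {r : ℕ}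
    (hv : ARB v r) (hK : ∀ n, IsNoetherianObject (K.obj (op n))) : ARSys.IsAdicNoeth J Y := by
  refine ⟨hY, fun n => (cc_true_iff _).1 ?_⟩
  let e := Abelian.factorThruImage (v.app (op (n + r)))
  obtain ⟨ψ, hψ⟩ := exists_factor e (ARSys.tr Y (Nat.le_add_right n r)) fun a ha => by
    refine hv.ker n (n + r) _ le_rfl a ?_
    rw [← Abelian.image.fac (v.app (op (n + r))), ap_comp, ha, map_zero]
  refine cc_of_surj ψ (fun y => ?_) (cc_of_inj (Abelian.image.ι (v.app (op (n + r))))
    (inj _) ((cc_true_iff _).2 (hK _)))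
  obtain ⟨y', rfl⟩ := (strict_iff Y).1 (isStrict_of_isAdic hY) n (n + r) (Nat.le_add_right n r) y
  exact ⟨ap e y', by rw [← ap_comp, hψ]; rfl⟩

theorem ses_biprod (X Y : ARSys.PS C) :
    SES (ShortComplex.mk (biprod.inl : X ⟶ X ⊞ Y) biprod.snd (by simp)) :=
  SES.of_shortExact (ShortComplex.Splitting.ofHasBinaryBiproduct X Y).shortExact

theorem termKilled_biprod {X Y : ARSys.PS C} (hX : ARSys.TermKilled J X)
    (hY : ARSys.TermKilled J Y) : ARSys.TermKilled J (X ⊞ Y) := fun n => killedBy_iff.2 fun x hx => by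
  have h1 := killed_IM (hX n) (IM_map ((biprod.fst : X ⊞ Y ⟶ X).app (op n)) hx)
  obtain ⟨a, rfl⟩ := (ses_biprod X Y).exact n x (killed_IM (hY n) (IM_map _ hx))
  have e : ap ((biprod.fst : X ⊞ Y ⟶ X).app (op n)) (ap ((biprod.inl : X ⟶ X ⊞ Y).app (op n)) a) = a := by
    rw [← ap_comp, ← NatTrans.comp_app, biprod.inl_fst]
    exact ap_id a
  rw [e] at h1
  rw [h1, map_zero]

variable (J) in
/-- Adic systems with noetherian terms. -/
abbrev AN : ObjectProperty (ARSys.PS C) := fun X => ARSys.IsAdicNoeth J X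

theorem an_zero [IsNoetherianRing A] {X : ARSys.PS C} (hX : IsZero X) :
    ARSys.IsAdicNoeth J X := by
  have hz : ∀ n (a : El (X.obj (op n))), a = 0 := fun n a => by
    have h0 : 𝟙 (X.obj (op n)) = 0 :=
      (((evaluation ℕᵒᵖ C).obj (op n)).map_isZero hX).eq_of_src _ _
    exact ((ap_id a).symm.trans (congrArg (fun f => ap f a) h0)).trans (ap_zero a)
  refine ⟨adic_iff.2 ⟨fun n => killedBy_iff.2 fun x _ => hz n x, fun n m h =>
    ⟨fun y => ⟨0, by rw [map_zero, hz n y]⟩, fun a _ => by rw [hz m a]; exact zero_mem _⟩⟩,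
    fun n => isNoetherianObject_of_isZero (((evaluation ℕᵒᵖ C).obj (op n)).map_isZero hX)⟩

theorem an_biprod [IsNoetherianRing A] {X Y : ARSys.PS C} (hX : ARSys.IsAdicNoeth J X)
    (hY : ARSys.IsAdicNoeth J Y) : ARSys.IsAdicNoeth J (X ⊞ Y) :=
  ⟨adic_ext (hq_pow (Or.inl (IsNoetherian.noetherian J))) (ses_biprod X Y)
      (termKilled_biprod hX.1.1 hY.1.1) hX.1 hY.1,
    fun n => (cc_true_iff _).1 (cc_ext ((biprod.inl : X ⟶ X ⊞ Y).app (op n)) ((biprod.snd : X ⊞ Y ⟶ Y).app (op n))
      ((ses_biprod X Y).exact n) ((cc_true_iff _).2 (hX.2 n)) ((cc_true_iff _).2 (hY.2 n)))⟩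

theorem strict_image {X Y : ARSys.PS C} (u : X ⟶ Y) (hX : ARSys.IsStrict X) :
    ARSys.IsStrict (Abelian.image u) :=
  strict_of_surj (u := Abelian.factorThruImage u)
    (fun n => haveI := app_epi (Abelian.factorThruImage u) n; surj _) hX

theorem an_cokernel {X Y : ARSys.PS C} (u : X ⟶ Y) (hX : ARSys.IsAdicNoeth J X)
    (hY : ARSys.IsAdicNoeth J Y) : ARSys.IsAdicNoeth J (cokernel u) := by
  have hI : (ShortComplex.mk (Abelian.image.ι u) (cokernel.π u) (kernel.condition _)).ShortExact :=
    ShortComplex.ShortExact.mk' (ShortComplex.exact_of_f_is_kernel _ (kernelIsKernel (cokernel.π u)))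
      inferInstance inferInstance
  exact ⟨adic_quotient (SES.of_shortExact hI) (strict_image u (isStrict_of_isAdic hX.1)) hY.1,
    fun n => (cc_true_iff _).1 (cc_of_surj _ ((SES.of_shortExact hI).surj n)
      ((cc_true_iff _).2 (hY.2 n)))⟩

variable [IsNoetherianRing A]

omit [IsNoetherianRing A] in
theorem homEq {X Y : (AN (C := C) J).FullSubcategory} {f g : X ⟶ Y} (h : f = g) :
    f.hom = g.hom := h ▸ rfl

theorem exists_adic_kernel {X Y : ARSys.PS C} (u : X ⟶ Y) (hX : ARSys.IsAdicNoeth J X)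
    (hY : ARSys.IsAdicNoeth J Y) :
    ∃ (K : ARSys.PS C) (v : K ⟶ kernel u) (r : ℕ), ARSys.IsAdicNoeth J K ∧ ARB v r := by
  have har : ∀ {Z : ARSys.PS C}, ARSys.IsAdicNoeth J Z → ARSys.IsARAdicNoeth J Z := fun {Z} hZ =>
    ⟨⟨hZ.1.1, Z, 𝟙 Z, hZ.1, (arIso_iff _).2 ⟨0, fun n m h _ a ha => by
      rw [NatTrans.id_app, ap_id] at ha
      rw [ha, map_zero], fun n m h _ b => ⟨res Z h b, ap_id _⟩⟩⟩, hZ.2⟩
  obtain ⟨⟨-, K, v, hK, hv⟩, hN⟩ := (arAdicNoeth_kernel_cokernel u (har hX) (har hY)).1
  obtain ⟨r, hr⟩ := (arIso_iff v).1 hv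
  exact ⟨K, v, r, adicNoeth_of_arIso hK v hr hN, hr⟩

variable (J) in
/-- The category. -/
abbrev ANCat := (AN (C := C) J).FullSubcategory

/-- A kernel in the category. -/
noncomputable def isLimitKernelFork {X Y K : ANCat (C := C) J} (u : X ⟶ Y) (k : K ⟶ X)
    (hk : k ≫ u = 0) (hk' : k.hom ≫ u.hom = 0) {r : ℕ} (hv : ARB (kernel.lift u.hom k.hom hk') r) :
    IsLimit (KernelFork.ofι k hk) :=
  haveI : Mono k := Preadditive.mono_of_cancel_zero k fun {W} g hg => by
    ext : 1
    refine eq_zero_of_comp (isStrict_of_isAdic W.property.1) _ hv g.hom ?_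
    rw [← cancel_mono (kernel.ι u.hom), Category.assoc, kernel.lift_ι, zero_comp]
    exact homEq hg
  KernelFork.IsLimit.ofι' k hk fun {W} g hg =>
    have hex := exists_lift_adic W.property.1 K.property.1.1 _ hv
      (kernel.lift u.hom g.hom (homEq hg))
    ⟨ObjectProperty.homMk hex.choose, by
      ext : 1
      change hex.choose ≫ k.hom = g.hom
      exact (congrArg (hex.choose ≫ ·) (kernel.lift_ι u.hom k.hom hk').symm).trans
        ((Category.assoc _ _ _).symm.trans ((eq_whisker hex.choose_spec _).trans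
          (kernel.lift_ι _ _ _)))⟩

theorem hasKernel {X Y : ANCat (C := C) J} (u : X ⟶ Y) :
    ∃ (K : ANCat (C := C) J) (k : K ⟶ X) (hk : k ≫ u = 0) (hk' : k.hom ≫ u.hom = 0) (r : ℕ),
      ARB (kernel.lift u.hom k.hom hk') r := by
  obtain ⟨K, v, r, hK, hv⟩ := exists_adic_kernel u.hom X.property Y.property
  have h0 : (v ≫ kernel.ι u.hom) ≫ u.hom = 0 := by rw [Category.assoc, kernel.condition, comp_zero]
  refine ⟨⟨K, hK⟩, ObjectProperty.homMk (v ≫ kernel.ι u.hom), by ext : 1; exact h0, h0, r, ?_⟩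
  have : kernel.lift u.hom (v ≫ kernel.ι u.hom) h0 = v := by
    rw [← cancel_mono (kernel.ι u.hom), kernel.lift_ι]
  exact this.symm ▸ hv

instance : HasKernels (ANCat (C := C) J) where
  has_limit {X Y} u := by
    obtain ⟨K, k, hk, hk', r, hv⟩ := hasKernel u
    exact ⟨⟨_, isLimitKernelFork u k hk hk' hv⟩⟩

/-- A cokernel in the category. -/
noncomputable def isColimitCokernelCofork {X Y : ANCat (C := C) J} (u : X ⟶ Y) :
    IsColimit (CokernelCofork.ofπ
      (ObjectProperty.homMk (cokernel.π u.hom) :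
        Y ⟶ (⟨cokernel u.hom, an_cokernel u.hom X.property Y.property⟩ : ANCat (C := C) J))
      (by ext : 1; exact cokernel.condition u.hom)) :=
  CokernelCofork.IsColimit.ofπ _ _
    (fun g hg => ObjectProperty.homMk
      (cokernel.desc u.hom g.hom (homEq hg)))
    (fun g hg => by ext : 1; exact cokernel.π_desc _ _ _)
    (fun g hg m hm => by
      ext : 1
      rw [← cancel_epi (cokernel.π u.hom)]
      exact (homEq hm).trans (cokernel.π_desc _ _ _).symm)

instance : HasCokernels (ANCat (C := C) J) where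
  has_colimit {X Y} u := ⟨⟨_, isColimitCokernelCofork u⟩⟩

theorem null_kernel_of_mono {X Y : ANCat (C := C) J} (f : X ⟶ Y) [Mono f] :
    ∃ r, ∀ (n m : ℕ) (h : n ≤ m), n + r ≤ m → ∀ a, ap (f.hom.app (op m)) a = 0 →
      res X.obj h a = 0 := by
  obtain ⟨K, k, hk, hk', r, hv⟩ := hasKernel f
  have hk0 : k = 0 := zero_of_comp_mono f hk
  refine ⟨r, fun n m h hm a ha => ?_⟩
  obtain ⟨b, rfl⟩ := app_exact (ShortComplex.mk _ _ (kernel.condition f.hom))
    (ShortComplex.exact_of_f_is_kernel _ (kernelIsKernel f.hom)) m a ha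
  obtain ⟨c, hc⟩ := hv.coker n m h hm b
  change res X.obj h (ap ((kernel.ι f.hom).app (op m)) b) = 0
  rw [← res_natural, ← hc, ← ap_comp, ← NatTrans.comp_app, kernel.lift_ι]
  exact (congrArg (fun g => ap (NatTrans.app g (op n)) c) (homEq hk0)).trans (ap_zero c)

theorem surj_of_epi {X Y : ANCat (C := C) J} (f : X ⟶ Y) [Epi f] (n : ℕ) :
    Function.Surjective (ap (f.hom.app (op n))) := by
  let c : Y ⟶ (⟨cokernel f.hom, an_cokernel f.hom X.property Y.property⟩ : ANCat (C := C) J) :=
    ObjectProperty.homMk (cokernel.π f.hom)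
  have hc : c = 0 := zero_of_epi_comp f (by ext : 1; exact cokernel.condition f.hom)
  intro y
  refine app_exact (ShortComplex.mk _ _ (cokernel.condition f.hom))
    (ShortComplex.exact_of_g_is_cokernel _ (cokernelIsCokernel f.hom)) n y ?_
  exact (congrArg (fun g => ap (NatTrans.app g (op n)) y) (homEq hc)).trans (ap_zero y)

instance : IsNormalMonoCategory (ANCat (C := C) J) where
  normalMonoOfMono {X Y} f _ := by
    let c : Y ⟶ (⟨cokernel f.hom, an_cokernel f.hom X.property Y.property⟩ : ANCat (C := C) J) :=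
      ObjectProperty.homMk (cokernel.π f.hom)
    have hc : f ≫ c = 0 := by ext : 1; exact cokernel.condition f.hom
    have hc' : f.hom ≫ c.hom = 0 := cokernel.condition f.hom
    obtain ⟨r, hr⟩ := null_kernel_of_mono f
    have hlift : ∀ n a, ap ((kernel.ι c.hom).app (op n))
        (ap ((kernel.lift c.hom f.hom hc').app (op n)) a) = ap (f.hom.app (op n)) a := fun n a => by
      rw [← ap_comp, ← NatTrans.comp_app, kernel.lift_ι]
    have hv : ARB (kernel.lift c.hom f.hom hc') r := by
      refine ⟨fun n m h hm a ha => hr n m h hm a (by rw [← hlift, ha, map_zero]),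
        fun n m h hm b => ?_⟩
      obtain ⟨a, ha⟩ := app_exact (ShortComplex.mk _ _ (cokernel.condition f.hom))
        (ShortComplex.exact_of_g_is_cokernel _ (cokernelIsCokernel f.hom)) n
        (ap ((kernel.ι c.hom).app (op n)) (res _ h b)) (by
          rw [← ap_comp, ← NatTrans.comp_app]
          exact (congrArg (fun g => ap (NatTrans.app g (op n)) _) (kernel.condition c.hom)).trans
            (ap_zero _))
      haveI := app_mono (kernel.ι c.hom) n
      exact ⟨a, inj ((kernel.ι c.hom).app (op n)) ((hlift n a).trans ha)⟩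
    exact ⟨⟨_, c, hc, isLimitKernelFork c f hc hc' hv⟩⟩

instance : IsNormalEpiCategory (ANCat (C := C) J) where
  normalEpiOfEpi {X Y} f _ := by
    have hsurj := surj_of_epi f
    obtain ⟨K, k, hk, hk', r, hv⟩ := hasKernel f
    haveI hepi : Epi f.hom := by
      haveI : ∀ i, Epi (f.hom.app i) := fun i => (epi_iff _).2 (hsurj i.unop)
      exact NatTrans.epi_of_epi_app f.hom
    have hS : (ShortComplex.mk (kernel.ι f.hom) f.hom (kernel.condition _)).ShortExact :=
      ShortComplex.ShortExact.mk' (ShortComplex.exact_of_f_is_kernel _ (kernelIsKernel f.hom))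
        inferInstance hepi
    have hK := strict_kernel (hq_pow (Or.inl (IsNoetherian.noetherian J))) (SES.of_shortExact hS)
      X.property.1.1 (isStrict_of_isAdic X.property.1) Y.property.1
    have hepi' : Epi (kernel.lift f.hom k.hom hk') := by
      haveI : ∀ i, Epi ((kernel.lift f.hom k.hom hk').app i) := fun i =>
        (epi_iff _).2 fun b => by
          obtain ⟨b', rfl⟩ := (strict_iff _).1 hK i.unop (i.unop + r) (Nat.le_add_right _ r) b
          exact hv.coker i.unop _ _ le_rfl b'
      exact NatTrans.epi_of_epi_app _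
    have hdesc : ∀ {W : ANCat (C := C) J} (g : X ⟶ W), k ≫ g = 0 → kernel.ι f.hom ≫ g.hom = 0 :=
      fun {W} g hg => by
        rw [← cancel_epi (kernel.lift f.hom k.hom hk'), ← Category.assoc, kernel.lift_ι, comp_zero]
        exact homEq hg
    refine ⟨⟨K, k, hk, CokernelCofork.IsColimit.ofπ _ _
      (fun g hg => ObjectProperty.homMk (Abelian.epiDesc f.hom g.hom (hdesc g hg)))
      (fun g hg => by ext : 1; exact Abelian.comp_epiDesc _ _ _)
      (fun g hg m hm => by
        ext : 1
        rw [← cancel_epi f.hom]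
        exact (homEq hm).trans
          (Abelian.comp_epiDesc _ _ (hdesc g hg)).symm)⟩⟩

open ZeroObject in
instance : HasFiniteProducts (ANCat (C := C) J) :=
  haveI : HasTerminal (ANCat (C := C) J) :=
    IsTerminal.hasTerminal (X := ⟨0, an_zero (isZero_zero _)⟩)
      (IsTerminal.ofUniqueHom (fun W => ObjectProperty.homMk 0) fun W g => by
        ext : 1; exact (isZero_zero _).eq_of_tgt _ _)
  haveI : HasBinaryProducts (ANCat (C := C) J) :=
    haveI : ∀ X Y : ANCat (C := C) J, HasLimit (pair X Y) := fun X Y =>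
      let Z : ANCat (C := C) J := ⟨X.obj ⊞ Y.obj, an_biprod X.property Y.property⟩
      ⟨⟨{ cone := BinaryFan.mk (P := Z) (ObjectProperty.homMk biprod.fst)
            (ObjectProperty.homMk biprod.snd)
          isLimit := BinaryFan.IsLimit.mk _
            (fun {T} f g => ObjectProperty.homMk (biprod.lift f.hom g.hom))
            (fun {T} f g => by ext : 1; exact biprod.lift_fst _ _)
            (fun {T} f g => by ext : 1; exact biprod.lift_snd _ _)
            (fun {T} f g m h₁ h₂ => by
              ext : 1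
              exact biprod.hom_ext _ _
                ((homEq h₁).trans (biprod.lift_fst _ _).symm)
                ((homEq h₂).trans (biprod.lift_snd _ _).symm)) }⟩⟩
    hasBinaryProducts_of_hasLimit_pair _
  hasFiniteProducts_of_has_binary_and_terminal

/-- The abelian structure. -/
noncomputable def anAbelian : Abelian (ANCat (C := C) J) := {}

theorem an_noetherian (Y : ANCat (C := C) J) : IsNoetherianObject Y := by
  letI := anAbelian (C := C) (J := J)
  rw [isNoetherianObject_iff_monotone_chain_condition]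
  intro Z
  let S : ℕ → Subobject Y.obj := fun i => imageSubobject (Z i).arrow.hom
  obtain ⟨k₀, hk₀⟩ := strict_chain Y.property ⟨S, fun i j h => by
      refine imageSubobject_le _ ((Subobject.ofLE _ _ (Z.monotone h)).hom ≫
        factorThruImageSubobject (Z j).arrow.hom) ?_
      rw [Category.assoc, imageSubobject_arrow_comp]
      exact homEq (Subobject.ofLE_arrow (Z.monotone h))⟩
    fun i => strict_of_surj (u := factorThruImageSubobject (Z i).arrow.hom)
      (fun n => haveI := app_epi (factorThruImageSubobject (Z i).arrow.hom) n; surj _)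
      (isStrict_of_isAdic (Subobject.underlying.obj (Z i)).property.1)
  refine ⟨k₀, fun k hk => le_antisymm (Z.monotone hk) ?_⟩
  have hS : S k ≤ S k₀ := (hk₀ k hk).le
  have hfac : (Z k).arrow.hom = factorThruImageSubobject (Z k).arrow.hom ≫
      Subobject.ofLE _ _ hS ≫ (S k₀).arrow := by
    rw [Subobject.ofLE_arrow, imageSubobject_arrow_comp]
  have hc' : (S k₀).arrow ≫ cokernel.π (Z k₀).arrow.hom = 0 := by
    rw [← cancel_epi (factorThruImageSubobject (Z k₀).arrow.hom), ← Category.assoc,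
      imageSubobject_arrow_comp, cokernel.condition, comp_zero]
  obtain ⟨c, hc, hlim⟩ : ∃ (c : Y ⟶ (⟨cokernel (Z k₀).arrow.hom,
      an_cokernel _ (Subobject.underlying.obj (Z k₀)).property Y.property⟩ : ANCat (C := C) J)),
      (Z k).arrow ≫ c = 0 ∧ ∀ {W : ANCat (C := C) J} (g : W ⟶ Y), g ≫ c = 0 →
        ∃ l, l ≫ (Z k₀).arrow = g := by
    let c : Y ⟶ (⟨cokernel (Z k₀).arrow.hom,
      an_cokernel _ (Subobject.underlying.obj (Z k₀)).property Y.property⟩ : ANCat (C := C) J) :=
      ObjectProperty.homMk (cokernel.π (Z k₀).arrow.hom)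
    refine ⟨c, ?_, fun {W} g hg => ?_⟩
    · ext : 1
      change (Z k).arrow.hom ≫ cokernel.π _ = 0
      rw [hfac, Category.assoc, Category.assoc, hc', comp_zero, comp_zero]
    · have hcol := isColimitCokernelCofork (Z k₀).arrow
      let e := Abelian.monoIsKernelOfCokernel _ hcol
      obtain ⟨l, hl⟩ := KernelFork.IsLimit.lift' e g hg
      exact ⟨l, hl⟩
  obtain ⟨l, hl⟩ := hlim _ hc
  exact Subobject.le_of_comm l hl

end ARLib
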